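import Cfsg.Agent.Comp.M23y.Data

set_option autoImplicit false
set_option maxRecDepth 100000
set_option Elab.async false

namespace Cfsg.Agent.Comp.M23y

theorem s0 : allR J.slpAt 0 22 = true := by decide +kernel
theorem l5 : J.lvlAt L5 [] = true := by decide +kernel
theorem q5_0 : allR (schChk J.E L5 [] J.AB h5 (nat_lit 1) (nat_lit 1)) 0 3 = true := by decide +kernel
theorem l4 : J.lvlAt L4 [L5] = true := by decide +kernel
theorem q4_0 : allR (schChk J.E L4 [L5] J.AB h4 (nat_lit 8) (nat_lit 255)) 0 16 = true := by decide +kernel
theorem l3 : J.lvlAt L3 [L4, L5] = true := by decide +kernel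
theorem q3_0 : allR (schChk J.E L3 [L4, L5] J.AB h3 (nat_lit 16) (nat_lit 65535)) 0 20 = true := by decide +kernel
theorem l2 : J.lvlAt L2 [L3, L4, L5] = true := by decide +kernel
theorem q2_0 : allR (schChk J.E L2 [L3, L4, L5] J.AB h2 (nat_lit 24) (nat_lit 16777215)) 0 21 = true := by decide +kernel
theorem l1 : J.lvlAt L1 [L2, L3, L4, L5] = true := by decide +kernel
theorem q1_0 : allR (schChk J.E L1 [L2, L3, L4, L5] J.AB h1 (nat_lit 32) (nat_lit 4294967295)) 0 22 = true := by decide +kernel
theorem l0 : J.lvlAt L0 [L1, L2, L3, L4, L5] = true := by decide +kernel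
theorem q0_0 : allR (schChk J.E L0 [L1, L2, L3, L4, L5] J.AB h0 (nat_lit 40) (nat_lit 1099511627775)) 0 23 = true := by decide +kernel
theorem rp : J.repsAt (nat_lit 17) xs = true := by decide +kernel
noncomputable def t134 : ℕ := nat_lit 0x2880387048480e884860a89050012868287830400c702088a030600128a0187818300c28a0405088700e70b0a888b09801289020888088027078884898700e7090a878a0800c706898a828280e7050501090480b2898586048800b882068205888027040805058700e70a0409890700e2890589830680b2868a098b070027030805828a80e8868882880500b28683060a0580c28a0305808980b2898384878480c2840989048700e2880182070580b7078a8586888022880182040700e7068801860380e28981820306001882038803000027020504828780c7060284828800e707878886878018868702828280e7068a85830200b2848489880200c28388828b0b001282030789888027020285810900e2820606018a80c705028a860700e8820a8a868580170a8202078580e70a818a858a00b8820902010880288b090109070028880201028280e28306068687801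
theorem n134 : fullChk J.E [L0, L1, L2, L3, L4, L5] R [nat_lit 8, nat_lit 16, nat_lit 24, nat_lit 136] t134 (nat_lit 56) (nat_lit 72057594037927935) = true := by decide +kernel
noncomputable def t133 : ℕ := nat_lit 0x28b068489098047040284808700a70b03050282802
theorem n133 : fullChk J.E [L0, L1, L2, L3, L4, L5] R [nat_lit 8, nat_lit 16, nat_lit 24, nat_lit 32, nat_lit 104] t133 (nat_lit 56) (nat_lit 72057594037927935) = true := by decide +kernel
noncomputable def t132 : ℕ := nat_lit 0x2880681098680988a0887848000370a89070482001
theorem n132 : fullChk J.E [L0, L1, L2, L3, L4, L5] R [nat_lit 8, nat_lit 16, nat_lit 24, nat_lit 32, nat_lit 152] t132 (nat_lit 56) (nat_lit 72057594037927935) = true := by decide +kernel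
noncomputable def t131 : ℕ := nat_lit 0x28502060b0800528b0302008200a709838b0485807
theorem n131 : fullChk J.E [L0, L1, L2, L3, L4, L5] R [nat_lit 8, nat_lit 16, nat_lit 24, nat_lit 32, nat_lit 72] t131 (nat_lit 56) (nat_lit 72057594037927935) = true := by decide +kernel
noncomputable def t130 : ℕ := nat_lit 0x7020a8589838082820201840380c2868a87088800b
theorem n130 : fullChk J.E [L0, L1, L2, L3, L4, L5] R [nat_lit 8, nat_lit 16, nat_lit 24, nat_lit 32, nat_lit 80] t130 (nat_lit 56) (nat_lit 72057594037927935) = true := by decide +kernel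
noncomputable def t129 : ℕ := nat_lit 0x2838a08830a00728b0689040480970204828981006
theorem n129 : fullChk J.E [L0, L1, L2, L3, L4, L5] R [nat_lit 8, nat_lit 16, nat_lit 24, nat_lit 32, nat_lit 40] t129 (nat_lit 56) (nat_lit 72057594037927935) = true := by decide +kernel
noncomputable def t128 : ℕ := nat_lit 0x28a04058082804703060300898038820584828380e
theorem n128 : fullChk J.E [L0, L1, L2, L3, L4, L5] R [nat_lit 8, nat_lit 16, nat_lit 24, nat_lit 32, nat_lit 0] t128 (nat_lit 56) (nat_lit 72057594037927935) = true := by decide +kernel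
noncomputable def t127 : ℕ := nat_lit 0x2111210000111100210021110000211100000000000000
theorem n127 : redChk J.E [L0, L1, L2, L3, L4, L5] J.AV [nat_lit 8, nat_lit 16, nat_lit 24, nat_lit 32] [nat_lit 149671424034816] t127 [nat_lit 0, nat_lit 40, nat_lit 80, nat_lit 72, nat_lit 152, nat_lit 104] = true := by decide +kernel
noncomputable def t126 : ℕ := nat_lit 0x88a0b09070280770208028988807284888a018200d
theorem n126 : fullChk J.E [L0, L1, L2, L3, L4, L5] R [nat_lit 8, nat_lit 16, nat_lit 24, nat_lit 0, nat_lit 128] t126 (nat_lit 56) (nat_lit 72057594037927935) = true := by decide +kernel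
noncomputable def t125 : ℕ := nat_lit 0x28303890487007702018a008580d70b02810208807
theorem n125 : fullChk J.E [L0, L1, L2, L3, L4, L5] R [nat_lit 8, nat_lit 16, nat_lit 24, nat_lit 0, nat_lit 88] t125 (nat_lit 56) (nat_lit 72057594037927935) = true := by decide +kernel
noncomputable def t124 : ℕ := nat_lit 0x286098684888078848784050700770b0482830200d
theorem n124 : fullChk J.E [L0, L1, L2, L3, L4, L5] R [nat_lit 8, nat_lit 16, nat_lit 24, nat_lit 0, nat_lit 72] t124 (nat_lit 56) (nat_lit 72057594037927935) = true := by decide +kernel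
noncomputable def t123 : ℕ := nat_lit 0x28901858b0100d2848605848380d70907090a8800d
theorem n123 : fullChk J.E [L0, L1, L2, L3, L4, L5] R [nat_lit 8, nat_lit 16, nat_lit 24, nat_lit 0, nat_lit 56] t123 (nat_lit 56) (nat_lit 72057594037927935) = true := by decide +kernel
noncomputable def t122 : ℕ := nat_lit 0x2840a02070700770203070b0100d88b048b0208807
theorem n122 : fullChk J.E [L0, L1, L2, L3, L4, L5] R [nat_lit 8, nat_lit 16, nat_lit 24, nat_lit 0, nat_lit 48] t122 (nat_lit 56) (nat_lit 72057594037927935) = true := by decide +kernel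
noncomputable def t121 : ℕ := nat_lit 0x28684870a8800d2858584890580d706078a8b0680d
theorem n121 : fullChk J.E [L0, L1, L2, L3, L4, L5] R [nat_lit 8, nat_lit 16, nat_lit 24, nat_lit 0, nat_lit 32] t121 (nat_lit 56) (nat_lit 72057594037927935) = true := by decide +kernel
noncomputable def t120 : ℕ := nat_lit 0x2121211121000011001121001100110000000000000000
theorem n120 : redChk J.E [L0, L1, L2, L3, L4, L5] J.AV [nat_lit 8, nat_lit 16, nat_lit 24, nat_lit 0] [nat_lit 123283144968192] t120 [nat_lit 32, nat_lit 48, nat_lit 56, nat_lit 72, nat_lit 88, nat_lit 128] = true := by decide +kernel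
noncomputable def t119 : ℕ := nat_lit 0x2121231331003323113111123231322122210000000000
theorem n119 : redChk J.E [L0, L1, L2, L3, L4, L5] J.AV [nat_lit 8, nat_lit 16, nat_lit 24] [nat_lit 150186820110336, nat_lit 149911942203392, nat_lit 123558022875136] t119 [nat_lit 0, nat_lit 32, nat_lit 136] = true := by decide +kernel
noncomputable def t118 : ℕ := nat_lit 0x283818282890088820985818980870201888a81808287880a870a80828308870502808288018888050082840588830a00870b01870508808709868786078082860b020b018082830708878280f2860a020509808709028a858a808702018a85818087058284090980870a0181058480870201870808008887858601888088840a8a8a8280f88402818804808288040a848280888a8606068200f288088b070280870a0904070b00f2820209098980f289038286070082890402058b008283058887890082850508898a808283820786088082830a010b070087020a848683808704878703080088820586058400f2878b060b0300870588858988808288060285848082868a0889828088820b050b0300828a060403888082878788090b0082858585048400f7050a858b060088878188098480888789820b070087030a0286018088848605870b0087020805030800f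
theorem n118 : fullChk J.E [L0, L1, L2, L3, L4, L5] R [nat_lit 8, nat_lit 16, nat_lit 0, nat_lit 112] t118 (nat_lit 56) (nat_lit 72057594037927935) = true := by decide +kernel
noncomputable def t117 : ℕ := nat_lit 0x704078885880032880601088600428405850507808
theorem n117 : fullChk J.E [L0, L1, L2, L3, L4, L5] R [nat_lit 8, nat_lit 16, nat_lit 0, nat_lit 32, nat_lit 88] t117 (nat_lit 56) (nat_lit 72057594037927935) = true := by decide +kernel
noncomputable def t116 : ℕ := nat_lit 0x88486080189804707890907098087080a8a8588003
theorem n116 : fullChk J.E [L0, L1, L2, L3, L4, L5] R [nat_lit 8, nat_lit 16, nat_lit 0, nat_lit 32, nat_lit 72] t116 (nat_lit 56) (nat_lit 72057594037927935) = true := by decide +kernel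
noncomputable def t115 : ℕ := nat_lit 0x2860b0a88828042898203878380f70588818709803
theorem n115 : fullChk J.E [L0, L1, L2, L3, L4, L5] R [nat_lit 8, nat_lit 16, nat_lit 0, nat_lit 32, nat_lit 80] t115 (nat_lit 56) (nat_lit 72057594037927935) = true := by decide +kernel
noncomputable def t114 : ℕ := nat_lit 0x70206038b078042838501040980828409048907803
theorem n114 : fullChk J.E [L0, L1, L2, L3, L4, L5] R [nat_lit 8, nat_lit 16, nat_lit 0, nat_lit 32, nat_lit 120] t114 (nat_lit 56) (nat_lit 72057594037927935) = true := by decide +kernel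
noncomputable def t113 : ℕ := nat_lit 0x2878704018500870a0286070800888683060486008
theorem n113 : fullChk J.E [L0, L1, L2, L3, L4, L5] R [nat_lit 8, nat_lit 16, nat_lit 0, nat_lit 32, nat_lit 112] t113 (nat_lit 56) (nat_lit 72057594037927935) = true := by decide +kernel
noncomputable def t112 : ℕ := nat_lit 0x706880786820082848a88878600828209810301808
theorem n112 : fullChk J.E [L0, L1, L2, L3, L4, L5] R [nat_lit 8, nat_lit 16, nat_lit 0, nat_lit 32, nat_lit 24] t112 (nat_lit 56) (nat_lit 72057594037927935) = true := by decide +kernel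
noncomputable def t111 : ℕ := nat_lit 0x11112121210000000021000000211111110000000000
theorem n111 : redChk J.E [L0, L1, L2, L3, L4, L5] J.AV [nat_lit 8, nat_lit 16, nat_lit 0, nat_lit 32] [nat_lit 149671424034816] t111 [nat_lit 24, nat_lit 112, nat_lit 120, nat_lit 80, nat_lit 72, nat_lit 88] = true := by decide +kernel
noncomputable def t110 : ℕ := nat_lit 0x7048b01028680888a0607018800f2830281060700f
theorem n110 : fullChk J.E [L0, L1, L2, L3, L4, L5] R [nat_lit 8, nat_lit 16, nat_lit 0, nat_lit 24, nat_lit 104] t110 (nat_lit 56) (nat_lit 72057594037927935) = true := by decide +kernel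
noncomputable def t109 : ℕ := nat_lit 0x2840907898700f2820581070400828301840687808
theorem n109 : fullChk J.E [L0, L1, L2, L3, L4, L5] R [nat_lit 8, nat_lit 16, nat_lit 0, nat_lit 24, nat_lit 160] t109 (nat_lit 56) (nat_lit 72057594037927935) = true := by decide +kernel
noncomputable def t108 : ℕ := nat_lit 0x286878580858082878a09068a80828485880b0980f
theorem n108 : fullChk J.E [L0, L1, L2, L3, L4, L5] R [nat_lit 8, nat_lit 16, nat_lit 0, nat_lit 24, nat_lit 72] t108 (nat_lit 56) (nat_lit 72057594037927935) = true := by decide +kernel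
noncomputable def t107 : ℕ := nat_lit 0x286858a8a0900f284840708060087048283820180f
theorem n107 : fullChk J.E [L0, L1, L2, L3, L4, L5] R [nat_lit 8, nat_lit 16, nat_lit 0, nat_lit 24, nat_lit 80] t107 (nat_lit 56) (nat_lit 72057594037927935) = true := by decide +kernel
noncomputable def t106 : ℕ := nat_lit 0x287818205898088838b04808280f28507088703808
theorem n106 : fullChk J.E [L0, L1, L2, L3, L4, L5] R [nat_lit 8, nat_lit 16, nat_lit 0, nat_lit 24, nat_lit 144] t106 (nat_lit 56) (nat_lit 72057594037927935) = true := by decide +kernel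
noncomputable def t105 : ℕ := nat_lit 0x8868a088a0b00f28a818a018380f8820784878880f
theorem n105 : fullChk J.E [L0, L1, L2, L3, L4, L5] R [nat_lit 8, nat_lit 16, nat_lit 0, nat_lit 24, nat_lit 32] t105 (nat_lit 56) (nat_lit 72057594037927935) = true := by decide +kernel
noncomputable def t104 : ℕ := nat_lit 0x2111001100001111000021210000211121000000000000
theorem n104 : redChk J.E [L0, L1, L2, L3, L4, L5] J.AV [nat_lit 8, nat_lit 16, nat_lit 0, nat_lit 24] [nat_lit 149671424034816] t104 [nat_lit 32, nat_lit 144, nat_lit 80, nat_lit 72, nat_lit 160, nat_lit 104] = true := by decide +kernel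
noncomputable def t103 : ℕ := nat_lit 0x1311332223212331003233313221322132110000000000
theorem n103 : redChk J.E [L0, L1, L2, L3, L4, L5] J.AV [nat_lit 8, nat_lit 16, nat_lit 0] [nat_lit 123901620258816, nat_lit 123867260520448, nat_lit 44702423320576] t103 [nat_lit 24, nat_lit 32, nat_lit 112] = true := by decide +kernel
noncomputable def t102 : ℕ := nat_lit 0x5251311221423122414132425122215211323100000000
theorem n102 : redChk J.E [L0, L1, L2, L3, L4, L5] J.AV [nat_lit 8, nat_lit 16] [nat_lit 123560170358784, nat_lit 44393588328448] t102 [nat_lit 0, nat_lit 24] = true := by decide +kernel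
noncomputable def t101 : ℕ := nat_lit 0x88a0b01870980d28a88070b000082898604068200d889860a0b00008882048207088077068501098100d282060105000087078601858700d88a0a8900870077058283080780d2830682898800d7048907080000828a040784000087068a8684888072838b09088700770205860887007289838284088087078706098a80d7020201030980d2838b090600008705040b098880728782820a00008884888401088078868881018780d70506098a808087038484030800d7060a898b0700770505888107007282060587888082820406820880728208870b0580d7020b018a8100d284020782088082880401058880d2868784848880888a0208878280d88b0b0107800087040704880880770802828887007886058881088077050704040180d7048783090000870205090487007283048503000088820787068880770506018b0780d7098604048700728786088607008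
theorem n101 : fullChk J.E [L0, L1, L2, L3, L4, L5] R [nat_lit 8, nat_lit 0, nat_lit 24, nat_lit 40] t101 (nat_lit 56) (nat_lit 72057594037927935) = true := by decide +kernel
noncomputable def t100 : ℕ := nat_lit 0x282090b090900170b0581078a80728203820a89007
theorem n100 : fullChk J.E [L0, L1, L2, L3, L4, L5] R [nat_lit 8, nat_lit 0, nat_lit 24, nat_lit 32, nat_lit 104] t100 (nat_lit 56) (nat_lit 72057594037927935) = true := by decide +kernel
noncomputable def t99 : ℕ := nat_lit 0x7058606818200188a0782830000828306098083802
theorem n99 : fullChk J.E [L0, L1, L2, L3, L4, L5] R [nat_lit 8, nat_lit 0, nat_lit 24, nat_lit 32, nat_lit 64] t99 (nat_lit 56) (nat_lit 72057594037927935) = true := by decide +kernel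
noncomputable def t98 : ℕ := nat_lit 0x7080a88060980d28b08828b0000828404040789808
theorem n98 : fullChk J.E [L0, L1, L2, L3, L4, L5] R [nat_lit 8, nat_lit 0, nat_lit 24, nat_lit 32, nat_lit 80] t98 (nat_lit 56) (nat_lit 72057594037927935) = true := by decide +kernel
noncomputable def t97 : ℕ := nat_lit 0x704028601050082820382890980128908858082802
theorem n97 : fullChk J.E [L0, L1, L2, L3, L4, L5] R [nat_lit 8, nat_lit 0, nat_lit 24, nat_lit 32, nat_lit 48] t97 (nat_lit 56) (nat_lit 72057594037927935) = true := by decide +kernel
noncomputable def t96 : ℕ := nat_lit 0x706088389030072868981878100228788870604007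
theorem n96 : fullChk J.E [L0, L1, L2, L3, L4, L5] R [nat_lit 8, nat_lit 0, nat_lit 24, nat_lit 32, nat_lit 112] t96 (nat_lit 56) (nat_lit 72057594037927935) = true := by decide +kernel
noncomputable def t95 : ℕ := nat_lit 0x288098386050087038781038080828506028880008
theorem n95 : fullChk J.E [L0, L1, L2, L3, L4, L5] R [nat_lit 8, nat_lit 0, nat_lit 24, nat_lit 32, nat_lit 16] t95 (nat_lit 56) (nat_lit 72057594037927935) = true := by decide +kernel
noncomputable def t94 : ℕ := nat_lit 0x2121000011211121000021000011001100110000000000
theorem n94 : redChk J.E [L0, L1, L2, L3, L4, L5] J.AV [nat_lit 8, nat_lit 0, nat_lit 24, nat_lit 32] [nat_lit 149671424034816] t94 [nat_lit 16, nat_lit 112, nat_lit 48, nat_lit 80, nat_lit 64, nat_lit 104] = true := by decide +kernel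
noncomputable def t93 : ℕ := nat_lit 0x7048506880580d28b0689058000870582090081808
theorem n93 : fullChk J.E [L0, L1, L2, L3, L4, L5] R [nat_lit 8, nat_lit 0, nat_lit 24, nat_lit 16, nat_lit 176] t93 (nat_lit 56) (nat_lit 72057594037927935) = true := by decide +kernel
noncomputable def t92 : ℕ := nat_lit 0x28202890181008703818906800082868885890400d
theorem n92 : fullChk J.E [L0, L1, L2, L3, L4, L5] R [nat_lit 8, nat_lit 0, nat_lit 24, nat_lit 16, nat_lit 160] t92 (nat_lit 56) (nat_lit 72057594037927935) = true := by decide +kernel
noncomputable def t91 : ℕ := nat_lit 0x282050685000082858b01828780d7080b078080808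
theorem n91 : fullChk J.E [L0, L1, L2, L3, L4, L5] R [nat_lit 8, nat_lit 0, nat_lit 24, nat_lit 16, nat_lit 64] t91 (nat_lit 56) (nat_lit 72057594037927935) = true := by decide +kernel
noncomputable def t90 : ℕ := nat_lit 0x706890301810082840908818681028483868980008
theorem n90 : fullChk J.E [L0, L1, L2, L3, L4, L5] R [nat_lit 8, nat_lit 0, nat_lit 24, nat_lit 16, nat_lit 80] t90 (nat_lit 56) (nat_lit 72057594037927935) = true := by decide +kernel
noncomputable def t89 : ℕ := nat_lit 0x884018805800088820708880a00d703888a0b00008
theorem n89 : fullChk J.E [L0, L1, L2, L3, L4, L5] R [nat_lit 8, nat_lit 0, nat_lit 24, nat_lit 16, nat_lit 48] t89 (nat_lit 56) (nat_lit 72057594037927935) = true := by decide +kernel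
noncomputable def t88 : ℕ := nat_lit 0x886030206800082820506898000888b0a870808810
theorem n88 : fullChk J.E [L0, L1, L2, L3, L4, L5] R [nat_lit 8, nat_lit 0, nat_lit 24, nat_lit 16, nat_lit 32] t88 (nat_lit 56) (nat_lit 72057594037927935) = true := by decide +kernel
noncomputable def t87 : ℕ := nat_lit 0x11002121001111002111110021002100000000000000
theorem n87 : redChk J.E [L0, L1, L2, L3, L4, L5] J.AV [nat_lit 8, nat_lit 0, nat_lit 24, nat_lit 16] [nat_lit 123283144968192] t87 [nat_lit 32, nat_lit 48, nat_lit 80, nat_lit 64, nat_lit 160, nat_lit 176] = true := by decide +kernel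
noncomputable def t86 : ℕ := nat_lit 0x2342112112132222111332323123213223000000000000
theorem n86 : redChk J.E [L0, L1, L2, L3, L4, L5] J.AV [nat_lit 8, nat_lit 0, nat_lit 24] [nat_lit 149980661680128, nat_lit 123764181305344, nat_lit 150221179848704] t86 [nat_lit 16, nat_lit 32, nat_lit 40] = true := by decide +kernel
noncomputable def t85 : ℕ := nat_lit 0x28b088109010078878887810100728b0387078380d2890a8a898280d8850285010980d88b0784090200d28205088b0700d288048700830102868484838580d8830a82078500d285090382010077068283058700d7098906870880d702040b080580d286848585810072848389020400d8858288808a80d28304810a0580d8848182008a00d70b0585848800d7068806870981028409070b010072820989870600d8850188010200d70a040281810072848581078480d2858a85020780d2878405898100788203088581007287890703050102840201878500d28a858b0a0100728a8287880500d884078b0701007284878581010072868408808a0107080b08848700d2848581078980d884850689010077098302878200d2868602058b00d7080a88870100728904898281007289020689010072820185878a00d70382010a0580d2868907070800d7058a818a81007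
theorem n85 : fullChk J.E [L0, L1, L2, L3, L4, L5] R [nat_lit 8, nat_lit 0, nat_lit 16, nat_lit 40] t85 (nat_lit 56) (nat_lit 72057594037927935) = true := by decide +kernel
noncomputable def t84 : ℕ := nat_lit 0x2848404038900d2850907078700d70a0689058a008
theorem n84 : fullChk J.E [L0, L1, L2, L3, L4, L5] R [nat_lit 8, nat_lit 0, nat_lit 16, nat_lit 32, nat_lit 88] t84 (nat_lit 56) (nat_lit 72057594037927935) = true := by decide +kernel
noncomputable def t83 : ℕ := nat_lit 0x8858681848000828384068a01007287840a0081007
theorem n83 : fullChk J.E [L0, L1, L2, L3, L4, L5] R [nat_lit 8, nat_lit 0, nat_lit 16, nat_lit 32, nat_lit 64] t83 (nat_lit 56) (nat_lit 72057594037927935) = true := by decide +kernel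
noncomputable def t82 : ℕ := nat_lit 0x7048802890580d284048385800082890601870500d
theorem n82 : fullChk J.E [L0, L1, L2, L3, L4, L5] R [nat_lit 8, nat_lit 0, nat_lit 16, nat_lit 32, nat_lit 56] t82 (nat_lit 56) (nat_lit 72057594037927935) = true := by decide +kernel
noncomputable def t81 : ℕ := nat_lit 0x882088383010072840901858100728605888480008
theorem n81 : fullChk J.E [L0, L1, L2, L3, L4, L5] R [nat_lit 8, nat_lit 0, nat_lit 16, nat_lit 32, nat_lit 144] t81 (nat_lit 56) (nat_lit 72057594037927935) = true := by decide +kernel
noncomputable def t80 : ℕ := nat_lit 0x28a8704060680828b040407008088860702830180d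
theorem n80 : fullChk J.E [L0, L1, L2, L3, L4, L5] R [nat_lit 8, nat_lit 0, nat_lit 16, nat_lit 32, nat_lit 112] t80 (nat_lit 56) (nat_lit 72057594037927935) = true := by decide +kernel
noncomputable def t79 : ℕ := nat_lit 0x28b03888603810885860b008180870983850800008
theorem n79 : fullChk J.E [L0, L1, L2, L3, L4, L5] R [nat_lit 8, nat_lit 0, nat_lit 16, nat_lit 32, nat_lit 24] t79 (nat_lit 56) (nat_lit 72057594037927935) = true := by decide +kernel
noncomputable def t78 : ℕ := nat_lit 0x21112100210011000011002111000021110000000000
theorem n78 : redChk J.E [L0, L1, L2, L3, L4, L5] J.AV [nat_lit 8, nat_lit 0, nat_lit 16, nat_lit 32] [nat_lit 149671424034816] t78 [nat_lit 24, nat_lit 112, nat_lit 144, nat_lit 56, nat_lit 64, nat_lit 88] = true := by decide +kernel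
noncomputable def t77 : ℕ := nat_lit 0x7020a83088980d88b08828b080108878404828980d
theorem n77 : fullChk J.E [L0, L1, L2, L3, L4, L5] R [nat_lit 8, nat_lit 0, nat_lit 16, nat_lit 24, nat_lit 104] t77 (nat_lit 56) (nat_lit 72057594037927935) = true := by decide +kernel
noncomputable def t76 : ℕ := nat_lit 0x28308810107010285080a828b00d88a0802888980d
theorem n76 : fullChk J.E [L0, L1, L2, L3, L4, L5] R [nat_lit 8, nat_lit 0, nat_lit 16, nat_lit 24, nat_lit 160] t76 (nat_lit 56) (nat_lit 72057594037927935) = true := by decide +kernel
noncomputable def t75 : ℕ := nat_lit 0x7068a89038a00d7060681058800d70a8603078380d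
theorem n75 : fullChk J.E [L0, L1, L2, L3, L4, L5] R [nat_lit 8, nat_lit 0, nat_lit 16, nat_lit 24, nat_lit 72] t75 (nat_lit 56) (nat_lit 72057594037927935) = true := by decide +kernel
noncomputable def t74 : ℕ := nat_lit 0x704020100838102858684878300d7080308818600d
theorem n74 : fullChk J.E [L0, L1, L2, L3, L4, L5] R [nat_lit 8, nat_lit 0, nat_lit 16, nat_lit 24, nat_lit 80] t74 (nat_lit 56) (nat_lit 72057594037927935) = true := by decide +kernel
noncomputable def t73 : ℕ := nat_lit 0x7068309078980d2820987878980d2878582880580d
theorem n73 : fullChk J.E [L0, L1, L2, L3, L4, L5] R [nat_lit 8, nat_lit 0, nat_lit 16, nat_lit 24, nat_lit 120] t73 (nat_lit 56) (nat_lit 72057594037927935) = true := by decide +kernel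
noncomputable def t72 : ℕ := nat_lit 0x2850801020601070606020182010884828b0109810
theorem n72 : fullChk J.E [L0, L1, L2, L3, L4, L5] R [nat_lit 8, nat_lit 0, nat_lit 16, nat_lit 24, nat_lit 32] t72 (nat_lit 56) (nat_lit 72057594037927935) = true := by decide +kernel
noncomputable def t71 : ℕ := nat_lit 0x1121002111002100000011110000112121000000000000
theorem n71 : redChk J.E [L0, L1, L2, L3, L4, L5] J.AV [nat_lit 8, nat_lit 0, nat_lit 16, nat_lit 24] [nat_lit 123283144968192] t71 [nat_lit 32, nat_lit 120, nat_lit 80, nat_lit 72, nat_lit 160, nat_lit 104] = true := by decide +kernel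
noncomputable def t70 : ℕ := nat_lit 0x2131221211123121112322313113232133000000000000
theorem n70 : redChk J.E [L0, L1, L2, L3, L4, L5] J.AV [nat_lit 8, nat_lit 0, nat_lit 16] [nat_lit 44290106460160, nat_lit 123798541043712, nat_lit 123764181305344] t70 [nat_lit 24, nat_lit 32, nat_lit 40] = true := by decide +kernel
noncomputable def t69 : ℕ := nat_lit 0x4211312241225112312132214151515241413200000000
theorem n69 : redChk J.E [L0, L1, L2, L3, L4, L5] J.AV [nat_lit 8, nat_lit 0] [nat_lit 44635314456576, nat_lit 150154876291072] t69 [nat_lit 16, nat_lit 24] = true := by decide +kernel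
noncomputable def t68 : ℕ := nat_lit 0x5141425252324111623161514121213112515142000000
theorem n68 : redChk J.E [L0, L1, L2, L3, L4, L5] J.AV [nat_lit 8] [nat_lit 44703901812736, nat_lit 123798682077184] t68 [nat_lit 0, nat_lit 16] = true := by decide +kernel
noncomputable def t67 : ℕ := nat_lit 0x2820306848000e2878708098880e285898587800077060189038880e887890288000072820883860380e8858288030300e88a840605800072858981860000e2878582070100d70402028a0000e2820a0a088000e7030609820980e7040182858380d2878802868000e70b0a81820000e2868b06098200e8850184888400d88786810b0280e7020404088900e7098585868400d28988040b0800e2820707080a80d8848289898000e2848308888000e285078a008580d8880602010400e884850a8b0000e70a0609888000e283880383000072820483040000770b07810a8000e8838a8b060880e2898785830000e2898188088000e28203880a8380d2850887888000e70b088a848000770207098b0280e28a070585800072880b08878000e8820a86088000e28509038b0280e7068981888000e28a820a860200d708088485800077038402880000e7080703088000e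
theorem n67 : fullChk J.E [L0, L1, L2, L3, L4, L5] R [nat_lit 0, nat_lit 16, nat_lit 24, nat_lit 112] t67 (nat_lit 56) (nat_lit 72057594037927935) = true := by decide +kernel
noncomputable def t66 : ℕ := nat_lit 0x28a03840900007885828a840880828385010a00007
theorem n66 : fullChk J.E [L0, L1, L2, L3, L4, L5] R [nat_lit 0, nat_lit 16, nat_lit 24, nat_lit 32, nat_lit 128] t66 (nat_lit 56) (nat_lit 72057594037927935) = true := by decide +kernel
noncomputable def t65 : ℕ := nat_lit 0x8820186088780a2868a81040000c28483098980009
theorem n65 : fullChk J.E [L0, L1, L2, L3, L4, L5] R [nat_lit 0, nat_lit 16, nat_lit 24, nat_lit 32, nat_lit 160] t65 (nat_lit 56) (nat_lit 72057594037927935) = true := by decide +kernel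
noncomputable def t64 : ℕ := nat_lit 0x8860601060a00b8850702870500e8840a87058000c
theorem n64 : fullChk J.E [L0, L1, L2, L3, L4, L5] R [nat_lit 0, nat_lit 16, nat_lit 24, nat_lit 32, nat_lit 56] t64 (nat_lit 56) (nat_lit 72057594037927935) = true := by decide +kernel
noncomputable def t63 : ℕ := nat_lit 0x28a0308078000e2848208080000b2858389820000c
theorem n63 : fullChk J.E [L0, L1, L2, L3, L4, L5] R [nat_lit 0, nat_lit 16, nat_lit 24, nat_lit 32, nat_lit 48] t63 (nat_lit 56) (nat_lit 72057594037927935) = true := by decide +kernel
noncomputable def t62 : ℕ := nat_lit 0x88802888a0000b8838b0704800092820385898680a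
theorem n62 : fullChk J.E [L0, L1, L2, L3, L4, L5] R [nat_lit 0, nat_lit 16, nat_lit 24, nat_lit 32, nat_lit 112] t62 (nat_lit 56) (nat_lit 72057594037927935) = true := by decide +kernel
noncomputable def t61 : ℕ := nat_lit 0x888018a820480d7080705058200d8890484878b00d
theorem n61 : fullChk J.E [L0, L1, L2, L3, L4, L5] R [nat_lit 0, nat_lit 16, nat_lit 24, nat_lit 32, nat_lit 8] t61 (nat_lit 56) (nat_lit 72057594037927935) = true := by decide +kernel
noncomputable def t60 : ℕ := nat_lit 0x2100002121110011001121111100000000210000000000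
theorem n60 : redChk J.E [L0, L1, L2, L3, L4, L5] J.AV [nat_lit 0, nat_lit 16, nat_lit 24, nat_lit 32] [nat_lit 123283144968192] t60 [nat_lit 8, nat_lit 112, nat_lit 48, nat_lit 56, nat_lit 160, nat_lit 128] = true := by decide +kernel
noncomputable def t59 : ℕ := nat_lit 0x8820a850b0700f28585058305808887828a8a05008
theorem n59 : fullChk J.E [L0, L1, L2, L3, L4, L5] R [nat_lit 0, nat_lit 16, nat_lit 24, nat_lit 8, nat_lit 104] t59 (nat_lit 56) (nat_lit 72057594037927935) = true := by decide +kernel
noncomputable def t58 : ℕ := nat_lit 0x88a8b0886040082860605868880f28908050408008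
theorem n58 : fullChk J.E [L0, L1, L2, L3, L4, L5] R [nat_lit 0, nat_lit 16, nat_lit 24, nat_lit 8, nat_lit 88] t58 (nat_lit 56) (nat_lit 72057594037927935) = true := by decide +kernel
noncomputable def t57 : ℕ := nat_lit 0x70a028285080087058401878800828a0903830a00f
theorem n57 : fullChk J.E [L0, L1, L2, L3, L4, L5] R [nat_lit 0, nat_lit 16, nat_lit 24, nat_lit 8, nat_lit 72] t57 (nat_lit 56) (nat_lit 72057594037927935) = true := by decide +kernel
noncomputable def t56 : ℕ := nat_lit 0x7030b0a008000f28b0b05048380870a0885878980f
theorem n56 : fullChk J.E [L0, L1, L2, L3, L4, L5] R [nat_lit 0, nat_lit 16, nat_lit 24, nat_lit 8, nat_lit 56] t56 (nat_lit 56) (nat_lit 72057594037927935) = true := by decide +kernel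
noncomputable def t55 : ℕ := nat_lit 0x2858407810000f7040482078800f2860a868083008
theorem n55 : fullChk J.E [L0, L1, L2, L3, L4, L5] R [nat_lit 0, nat_lit 16, nat_lit 24, nat_lit 8, nat_lit 48] t55 (nat_lit 56) (nat_lit 72057594037927935) = true := by decide +kernel
noncomputable def t54 : ℕ := nat_lit 0x2820389058500f8890302880780f2858606810000f
theorem n54 : fullChk J.E [L0, L1, L2, L3, L4, L5] R [nat_lit 0, nat_lit 16, nat_lit 24, nat_lit 8, nat_lit 32] t54 (nat_lit 56) (nat_lit 72057594037927935) = true := by decide +kernel
noncomputable def t53 : ℕ := nat_lit 0x2111112111001121000011002100210000000000000000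
theorem n53 : redChk J.E [L0, L1, L2, L3, L4, L5] J.AV [nat_lit 0, nat_lit 16, nat_lit 24, nat_lit 8] [nat_lit 149671424034816] t53 [nat_lit 32, nat_lit 48, nat_lit 56, nat_lit 72, nat_lit 88, nat_lit 104] = true := by decide +kernel
noncomputable def t52 : ℕ := nat_lit 0x3333232313213233002233322211211221110000000000
theorem n52 : redChk J.E [L0, L1, L2, L3, L4, L5] J.AV [nat_lit 0, nat_lit 16, nat_lit 24] [nat_lit 44599344105472, nat_lit 44221386983424, nat_lit 44290106460160] t52 [nat_lit 8, nat_lit 32, nat_lit 112] = true := by decide +kernel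
noncomputable def t51 : ℕ := nat_lit 0x88984088a8a00d70a0288878a00d702058284800077048703820980d88a0a85808980d706898106800078878a85888b00d2868501870800d7040a8408000072858709878000728a88840a00007709040a008981028b0389030381070584810480007289860682000077030b070a8000728486070b0400d7058489898480d2868281840000788a0b04080580d7068409070880d706880582020102890206018500d7090709048580d28a8a060b0901028a050a810b00d70b0506008700d7040302880900d28389028b0400d8868b0889000072848a87890000788903010b000072820984080580d88b0181098480d28a0704078380d286880b07800077068884078a00d282030803800072858a8185000072858909858200d2868388040500d2878882838800d28a0606070900d88a8381078200d70a83088780007885818b050480d2880184090480d2840682010980d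
theorem n51 : fullChk J.E [L0, L1, L2, L3, L4, L5] R [nat_lit 0, nat_lit 16, nat_lit 8, nat_lit 40] t51 (nat_lit 56) (nat_lit 72057594037927935) = true := by decide +kernel
noncomputable def t50 : ℕ := nat_lit 0x887898283800072878588858000770687088080808
theorem n50 : fullChk J.E [L0, L1, L2, L3, L4, L5] R [nat_lit 0, nat_lit 16, nat_lit 8, nat_lit 32, nat_lit 88] t50 (nat_lit 56) (nat_lit 72057594037927935) = true := by decide +kernel
noncomputable def t49 : ℕ := nat_lit 0x28b0a0605078082868409820000728b07060600007
theorem n49 : fullChk J.E [L0, L1, L2, L3, L4, L5] R [nat_lit 0, nat_lit 16, nat_lit 8, nat_lit 32, nat_lit 168] t49 (nat_lit 56) (nat_lit 72057594037927935) = true := by decide +kernel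
noncomputable def t48 : ℕ := nat_lit 0x704090589850087068506898680d7020207820700d
theorem n48 : fullChk J.E [L0, L1, L2, L3, L4, L5] R [nat_lit 0, nat_lit 16, nat_lit 8, nat_lit 32, nat_lit 56] t48 (nat_lit 56) (nat_lit 72057594037927935) = true := by decide +kernel
noncomputable def t47 : ℕ := nat_lit 0x883028889078087078b03818280d7020185070700d
theorem n47 : fullChk J.E [L0, L1, L2, L3, L4, L5] R [nat_lit 0, nat_lit 16, nat_lit 8, nat_lit 32, nat_lit 48] t47 (nat_lit 56) (nat_lit 72057594037927935) = true := by decide +kernel
noncomputable def t46 : ℕ := nat_lit 0x707820107868088890506008980d28981858606808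
theorem n46 : fullChk J.E [L0, L1, L2, L3, L4, L5] R [nat_lit 0, nat_lit 16, nat_lit 8, nat_lit 32, nat_lit 40] t46 (nat_lit 56) (nat_lit 72057594037927935) = true := by decide +kernel
noncomputable def t45 : ℕ := nat_lit 0x28207010b018087038588890200828985818983010
theorem n45 : fullChk J.E [L0, L1, L2, L3, L4, L5] R [nat_lit 0, nat_lit 16, nat_lit 8, nat_lit 32, nat_lit 24] t45 (nat_lit 56) (nat_lit 72057594037927935) = true := by decide +kernel
noncomputable def t44 : ℕ := nat_lit 0x211121210011110021001111210000000000000000
theorem n44 : redChk J.E [L0, L1, L2, L3, L4, L5] J.AV [nat_lit 0, nat_lit 16, nat_lit 8, nat_lit 32] [nat_lit 123283144968192] t44 [nat_lit 24, nat_lit 40, nat_lit 48, nat_lit 56, nat_lit 168, nat_lit 88] = true := by decide +kernel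
noncomputable def t43 : ℕ := nat_lit 0x7098804878a00d70a0205030900d70302018681810
theorem n43 : fullChk J.E [L0, L1, L2, L3, L4, L5] R [nat_lit 0, nat_lit 16, nat_lit 8, nat_lit 24, nat_lit 104] t43 (nat_lit 56) (nat_lit 72057594037927935) = true := by decide +kernel
noncomputable def t42 : ℕ := nat_lit 0x8850903820980d70b0181058800d2848a09828600d
theorem n42 : fullChk J.E [L0, L1, L2, L3, L4, L5] R [nat_lit 0, nat_lit 16, nat_lit 8, nat_lit 24, nat_lit 152] t42 (nat_lit 56) (nat_lit 72057594037927935) = true := by decide +kernel
noncomputable def t41 : ℕ := nat_lit 0x2838188848780d7030887020980d2848b04820580d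
theorem n41 : fullChk J.E [L0, L1, L2, L3, L4, L5] R [nat_lit 0, nat_lit 16, nat_lit 8, nat_lit 24, nat_lit 64] t41 (nat_lit 56) (nat_lit 72057594037927935) = true := by decide +kernel
noncomputable def t40 : ℕ := nat_lit 0x884890480850102880904838380d7020301848980d
theorem n40 : fullChk J.E [L0, L1, L2, L3, L4, L5] R [nat_lit 0, nat_lit 16, nat_lit 8, nat_lit 24, nat_lit 56] t40 (nat_lit 56) (nat_lit 72057594037927935) = true := by decide +kernel
noncomputable def t39 : ℕ := nat_lit 0x285820a88800102820709078580d2820884820980d
theorem n39 : fullChk J.E [L0, L1, L2, L3, L4, L5] R [nat_lit 0, nat_lit 16, nat_lit 8, nat_lit 24, nat_lit 48] t39 (nat_lit 56) (nat_lit 72057594037927935) = true := by decide +kernel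
noncomputable def t38 : ℕ := nat_lit 0x702060682800102860a81858001088a05060700010
theorem n38 : fullChk J.E [L0, L1, L2, L3, L4, L5] R [nat_lit 0, nat_lit 16, nat_lit 8, nat_lit 24, nat_lit 32] t38 (nat_lit 56) (nat_lit 72057594037927935) = true := by decide +kernel
noncomputable def t37 : ℕ := nat_lit 0x2121210011001121000011112111000000000000000000
theorem n37 : redChk J.E [L0, L1, L2, L3, L4, L5] J.AV [nat_lit 0, nat_lit 16, nat_lit 8, nat_lit 24] [nat_lit 149671424034816] t37 [nat_lit 32, nat_lit 48, nat_lit 56, nat_lit 64, nat_lit 152, nat_lit 104] = true := by decide +kernel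
noncomputable def t36 : ℕ := nat_lit 0x4312333232111113122121332223222223000000000000
theorem n36 : redChk J.E [L0, L1, L2, L3, L4, L5] J.AV [nat_lit 0, nat_lit 16, nat_lit 8] [nat_lit 150049381156864, nat_lit 150255539587072, nat_lit 123695461828608] t36 [nat_lit 24, nat_lit 32, nat_lit 40] = true := by decide +kernel
noncomputable def t35 : ℕ := nat_lit 0x3121425152623212323122224111414221325200000000
theorem n35 : redChk J.E [L0, L1, L2, L3, L4, L5] J.AV [nat_lit 0, nat_lit 16] [nat_lit 123456554272768, nat_lit 150050186463232] t35 [nat_lit 8, nat_lit 24] = true := by decide +kernel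
noncomputable def t34 : ℕ := nat_lit 0x2868304008380e702080a008000e28a8884850000f2848587808000e705818a078700f7040987890000e7080687808000e88a8602060480f2838503020080e70585888a0000f7098401030000e7030189880080e70a8307808000e7058781040880f28b0784848000e7038702098000e2858286098680e8868283870a80f2848382820080e7050283008000e7068803008580f28a8a8a008000e7058183808980f8850186840000e8898a03008000e2890588098600f28b0308820800e70b0785050000e2848706008000e2898b07010000f70b0a81840000f2890a84020000e28a050b008000e70406098b0000e7068186818080e8820984048300f7048701048080e7040a01080780f7038789860000e7020404898880f2820807868a00e8820603808000e7068382010580e704858b088b00e7020a05068000f284058a0b0000f70a8189020080e2858b06808000e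
theorem n34 : fullChk J.E [L0, L1, L2, L3, L4, L5] R [nat_lit 0, nat_lit 8, nat_lit 24, nat_lit 40] t34 (nat_lit 56) (nat_lit 72057594037927935) = true := by decide +kernel
noncomputable def t33 : ℕ := nat_lit 0x7038382890000b2878781060000b7068186808080b
theorem n33 : fullChk J.E [L0, L1, L2, L3, L4, L5] R [nat_lit 0, nat_lit 8, nat_lit 24, nat_lit 32, nat_lit 128] t33 (nat_lit 56) (nat_lit 72057594037927935) = true := by decide +kernel
noncomputable def t32 : ℕ := nat_lit 0x28a0b07820180d70981810a8000e28b0208808000e
theorem n32 : fullChk J.E [L0, L1, L2, L3, L4, L5] R [nat_lit 0, nat_lit 8, nat_lit 24, nat_lit 32, nat_lit 72] t32 (nat_lit 56) (nat_lit 72057594037927935) = true := by decide +kernel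
noncomputable def t31 : ℕ := nat_lit 0x8878401808000e2880488868300d2830988820080e
theorem n31 : fullChk J.E [L0, L1, L2, L3, L4, L5] R [nat_lit 0, nat_lit 8, nat_lit 24, nat_lit 32, nat_lit 56] t31 (nat_lit 56) (nat_lit 72057594037927935) = true := by decide +kernel
noncomputable def t30 : ℕ := nat_lit 0x8898282808400d28a0b02830000e7098486008000e
theorem n30 : fullChk J.E [L0, L1, L2, L3, L4, L5] R [nat_lit 0, nat_lit 8, nat_lit 24, nat_lit 32, nat_lit 120] t30 (nat_lit 56) (nat_lit 72057594037927935) = true := by decide +kernel
noncomputable def t29 : ℕ := nat_lit 0x88b0388020000c2858606088080c709890b078000c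
theorem n29 : fullChk J.E [L0, L1, L2, L3, L4, L5] R [nat_lit 0, nat_lit 8, nat_lit 24, nat_lit 32, nat_lit 112] t29 (nat_lit 56) (nat_lit 72057594037927935) = true := by decide +kernel
noncomputable def t28 : ℕ := nat_lit 0x7020a83040500f2858a81070a80f2868288890780f
theorem n28 : fullChk J.E [L0, L1, L2, L3, L4, L5] R [nat_lit 0, nat_lit 8, nat_lit 24, nat_lit 32, nat_lit 16] t28 (nat_lit 56) (nat_lit 72057594037927935) = true := by decide +kernel
noncomputable def t27 : ℕ := nat_lit 0x1111000021210000002111002100210011110000000000
theorem n27 : redChk J.E [L0, L1, L2, L3, L4, L5] J.AV [nat_lit 0, nat_lit 8, nat_lit 24, nat_lit 32] [nat_lit 149671424034816] t27 [nat_lit 16, nat_lit 112, nat_lit 120, nat_lit 56, nat_lit 72, nat_lit 128] = true := by decide +kernel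
noncomputable def t26 : ℕ := nat_lit 0x28b0709810580d7078784878200d8868807020980d
theorem n26 : fullChk J.E [L0, L1, L2, L3, L4, L5] R [nat_lit 0, nat_lit 8, nat_lit 24, nat_lit 16, nat_lit 128] t26 (nat_lit 56) (nat_lit 72057594037927935) = true := by decide +kernel
noncomputable def t25 : ℕ := nat_lit 0x28a0188808380d2848801020980d7078502880580d
theorem n25 : fullChk J.E [L0, L1, L2, L3, L4, L5] R [nat_lit 0, nat_lit 8, nat_lit 24, nat_lit 16, nat_lit 152] t25 (nat_lit 56) (nat_lit 72057594037927935) = true := by decide +kernel
noncomputable def t24 : ℕ := nat_lit 0x2868304828500d8858284078580d88789058988810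
theorem n24 : fullChk J.E [L0, L1, L2, L3, L4, L5] R [nat_lit 0, nat_lit 8, nat_lit 24, nat_lit 16, nat_lit 72] t24 (nat_lit 56) (nat_lit 72057594037927935) = true := by decide +kernel
noncomputable def t23 : ℕ := nat_lit 0x2820182898680d886888b068980d2850a878809810
theorem n23 : fullChk J.E [L0, L1, L2, L3, L4, L5] R [nat_lit 0, nat_lit 8, nat_lit 24, nat_lit 16, nat_lit 56] t23 (nat_lit 56) (nat_lit 72057594037927935) = true := by decide +kernel
noncomputable def t22 : ℕ := nat_lit 0x287898787830108868704898200d8820402898680d
theorem n22 : fullChk J.E [L0, L1, L2, L3, L4, L5] R [nat_lit 0, nat_lit 8, nat_lit 24, nat_lit 16, nat_lit 144] t22 (nat_lit 56) (nat_lit 72057594037927935) = true := by decide +kernel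
noncomputable def t21 : ℕ := nat_lit 0x70a088a83828108848b0a09800107058a870682010
theorem n21 : fullChk J.E [L0, L1, L2, L3, L4, L5] R [nat_lit 0, nat_lit 8, nat_lit 24, nat_lit 16, nat_lit 32] t21 (nat_lit 56) (nat_lit 72057594037927935) = true := by decide +kernel
noncomputable def t20 : ℕ := nat_lit 0x1111210000000011002111112100210021000000000000
theorem n20 : redChk J.E [L0, L1, L2, L3, L4, L5] J.AV [nat_lit 0, nat_lit 8, nat_lit 24, nat_lit 16] [nat_lit 149671424034816] t20 [nat_lit 32, nat_lit 144, nat_lit 56, nat_lit 72, nat_lit 152, nat_lit 128] = true := by decide +kernel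
noncomputable def t19 : ℕ := nat_lit 0x2213212332131232113123114123212231000000000000
theorem n19 : redChk J.E [L0, L1, L2, L3, L4, L5] J.AV [nat_lit 0, nat_lit 8, nat_lit 24] [nat_lit 44702423320576, nat_lit 44530624628736, nat_lit 123523663136768] t19 [nat_lit 16, nat_lit 32, nat_lit 40] = true := by decide +kernel
noncomputable def t18 : ℕ := nat_lit 0x70b068a040000f8820304888900d28b0188008100f8898183078480d7068609840100f70605818b0580f2860a85820980d7020984068880f8820282050600f8848b04078680f7060288020000f7048805080a0107040185858a8102820187028000f7048586830100f2858a04860000f2838481078980d7020406090000f8878184018000f28a8801020500d70a8908878080f7078188008380d7030603848880f2898488098080f7060802078980d2858684078080f28689828b0700f2840606860100f7040189808780d2850302098880f2848b04848880f28b0786008700f28309850a8001070a0682880100f2880401820580d28b0602858080f28605858b0b0107040781058100f2858388848700f7048a0b038000f88a018a820100f2858905868980d7058501060000f7068408088b00d8820203838880f8820182870080f2868886830100f289898b068980d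
theorem n18 : fullChk J.E [L0, L1, L2, L3, L4, L5] R [nat_lit 0, nat_lit 8, nat_lit 16, nat_lit 40] t18 (nat_lit 56) (nat_lit 72057594037927935) = true := by decide +kernel
noncomputable def t17 : ℕ := nat_lit 0x70a0708840000f2820507820080e2860282010080e
theorem n17 : fullChk J.E [L0, L1, L2, L3, L4, L5] R [nat_lit 0, nat_lit 8, nat_lit 16, nat_lit 32, nat_lit 160] t17 (nat_lit 56) (nat_lit 72057594037927935) = true := by decide +kernel
noncomputable def t16 : ℕ := nat_lit 0x884888a810000e88a0207008000e8820408880400f
theorem n16 : fullChk J.E [L0, L1, L2, L3, L4, L5] R [nat_lit 0, nat_lit 8, nat_lit 16, nat_lit 32, nat_lit 168] t16 (nat_lit 56) (nat_lit 72057594037927935) = true := by decide +kernel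
noncomputable def t15 : ℕ := nat_lit 0x8868a03010000e2848601808000e2868905850600f
theorem n15 : fullChk J.E [L0, L1, L2, L3, L4, L5] R [nat_lit 0, nat_lit 8, nat_lit 16, nat_lit 32, nat_lit 56] t15 (nat_lit 56) (nat_lit 72057594037927935) = true := by decide +kernel
noncomputable def t14 : ℕ := nat_lit 0x7040a82890780f2878384020080e88a8385008000e
theorem n14 : fullChk J.E [L0, L1, L2, L3, L4, L5] R [nat_lit 0, nat_lit 8, nat_lit 16, nat_lit 32, nat_lit 48] t14 (nat_lit 56) (nat_lit 72057594037927935) = true := by decide +kernel
noncomputable def t13 : ℕ := nat_lit 0x2890682810580d28686080a0800d8858184070680d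
theorem n13 : fullChk J.E [L0, L1, L2, L3, L4, L5] R [nat_lit 0, nat_lit 8, nat_lit 16, nat_lit 32, nat_lit 40] t13 (nat_lit 56) (nat_lit 72057594037927935) = true := by decide +kernel
noncomputable def t12 : ℕ := nat_lit 0x7040483858a0102860807018981028403048201010
theorem n12 : fullChk J.E [L0, L1, L2, L3, L4, L5] R [nat_lit 0, nat_lit 8, nat_lit 16, nat_lit 32, nat_lit 24] t12 (nat_lit 56) (nat_lit 72057594037927935) = true := by decide +kernel
noncomputable def t11 : ℕ := nat_lit 0x1111110021210011212121110000000000000000
theorem n11 : redChk J.E [L0, L1, L2, L3, L4, L5] J.AV [nat_lit 0, nat_lit 8, nat_lit 16, nat_lit 32] [nat_lit 149671424034816] t11 [nat_lit 24, nat_lit 40, nat_lit 48, nat_lit 56, nat_lit 168, nat_lit 160] = true := by decide +kernel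
noncomputable def t10 : ℕ := nat_lit 0x7038681090180f2890385840b00f28483018701810
theorem n10 : fullChk J.E [L0, L1, L2, L3, L4, L5] R [nat_lit 0, nat_lit 8, nat_lit 16, nat_lit 24, nat_lit 104] t10 (nat_lit 56) (nat_lit 72057594037927935) = true := by decide +kernel
noncomputable def t9 : ℕ := nat_lit 0x2848a86810a00f28a84890a8000f28a04818380010
theorem n9 : fullChk J.E [L0, L1, L2, L3, L4, L5] R [nat_lit 0, nat_lit 8, nat_lit 16, nat_lit 24, nat_lit 88] t9 (nat_lit 56) (nat_lit 72057594037927935) = true := by decide +kernel
noncomputable def t8 : ℕ := nat_lit 0x7078389008080f284830381870108868704080180f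
theorem n8 : fullChk J.E [L0, L1, L2, L3, L4, L5] R [nat_lit 0, nat_lit 8, nat_lit 16, nat_lit 24, nat_lit 72] t8 (nat_lit 56) (nat_lit 72057594037927935) = true := by decide +kernel
noncomputable def t7 : ℕ := nat_lit 0x88a870a8b0180f88608890a0001028a06080b0000f
theorem n7 : fullChk J.E [L0, L1, L2, L3, L4, L5] R [nat_lit 0, nat_lit 8, nat_lit 16, nat_lit 24, nat_lit 56] t7 (nat_lit 56) (nat_lit 72057594037927935) = true := by decide +kernel
noncomputable def t6 : ℕ := nat_lit 0x2898381078900f70209070808810703030b080000f
theorem n6 : fullChk J.E [L0, L1, L2, L3, L4, L5] R [nat_lit 0, nat_lit 8, nat_lit 16, nat_lit 24, nat_lit 120] t6 (nat_lit 56) (nat_lit 72057594037927935) = true := by decide +kernel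
noncomputable def t5 : ℕ := nat_lit 0x2860a8b040000f8820402008200f28404020084811
theorem n5 : fullChk J.E [L0, L1, L2, L3, L4, L5] R [nat_lit 0, nat_lit 8, nat_lit 16, nat_lit 24, nat_lit 32] t5 (nat_lit 56) (nat_lit 72057594037927935) = true := by decide +kernel
noncomputable def t4 : ℕ := nat_lit 0x2111112121001100000011002100210011000000000000
theorem n4 : redChk J.E [L0, L1, L2, L3, L4, L5] J.AV [nat_lit 0, nat_lit 8, nat_lit 16, nat_lit 24] [nat_lit 149671424034816] t4 [nat_lit 32, nat_lit 120, nat_lit 56, nat_lit 72, nat_lit 88, nat_lit 104] = true := by decide +kernel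
noncomputable def t3 : ℕ := nat_lit 0x2121122222133331123111134231324323000000000000
theorem n3 : redChk J.E [L0, L1, L2, L3, L4, L5] J.AV [nat_lit 0, nat_lit 8, nat_lit 16] [nat_lit 149911942203392, nat_lit 150221179848704, nat_lit 149946301941760] t3 [nat_lit 24, nat_lit 32, nat_lit 40] = true := by decide +kernel
noncomputable def t2 : ℕ := nat_lit 0x4242524132112241523241123242225231215200000000
theorem n2 : redChk J.E [L0, L1, L2, L3, L4, L5] J.AV [nat_lit 0, nat_lit 8] [nat_lit 44703497062400, nat_lit 123662981138432] t2 [nat_lit 16, nat_lit 24] = true := by decide +kernel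
noncomputable def t1 : ℕ := nat_lit 0x4142325231311152512161416212422252223241000000
theorem n1 : redChk J.E [L0, L1, L2, L3, L4, L5] J.AV [nat_lit 0] [nat_lit 123594265331712, nat_lit 149741358811136] t1 [nat_lit 8, nat_lit 16] = true := by decide +kernel
noncomputable def t0 : ℕ := nat_lit 0x5231213231423222513111224141413251421221420000
theorem n0 : redChk J.E [L0, L1, L2, L3, L4, L5] J.AV [] [nat_lit 123800017969152, nat_lit 123558562390016] t0 [nat_lit 0, nat_lit 8] = true := by decide +kernel
theorem sp : specChk J.E [L0, L1, L2, L3, L4, L5] R os [1, 2, 3, 4, 5, 6, 7, 8, 11, 14, 15, 23] = true := by decide +kernel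

end Cfsg.Agent.Comp.M23y
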