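import Cfsg.Agent.Comp.M23y.Chk0

set_option autoImplicit false
set_option maxRecDepth 100000
set_option Elab.async false

namespace Cfsg.Agent.Comp.M23y

theorem hs : ∀ j, j < J.N' → J.slpAt j = true := (range_step (lo := 0) 22 range_start s0)

theorem chain6 {Γ X : Type*} [Group Γ] [MulAction Γ X] {T : Lst X J.n} {gen : ℕ → Γ} {A : Subgroup Γ} (h : J.Model T gen A) : ChainOK h.M J.E (J.el gen) [] := trivial

theorem chain5 {Γ X : Type*} [Group Γ] [MulAction Γ X] {T : Lst X J.n} {gen : ℕ → Γ} {A : Subgroup Γ} (h : J.Model T gen A) : ChainOK h.M J.E (J.el gen) [L5] :=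
  h.chain_cons hs (chain6 h) l5 (range_step (lo := 0) 3 range_start q5_0)

theorem chain4 {Γ X : Type*} [Group Γ] [MulAction Γ X] {T : Lst X J.n} {gen : ℕ → Γ} {A : Subgroup Γ} (h : J.Model T gen A) : ChainOK h.M J.E (J.el gen) [L4, L5] :=
  h.chain_cons hs (chain5 h) l4 (range_step (lo := 0) 16 range_start q4_0)

theorem chain3 {Γ X : Type*} [Group Γ] [MulAction Γ X] {T : Lst X J.n} {gen : ℕ → Γ} {A : Subgroup Γ} (h : J.Model T gen A) : ChainOK h.M J.E (J.el gen) [L3, L4, L5] :=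
  h.chain_cons hs (chain4 h) l3 (range_step (lo := 0) 20 range_start q3_0)

theorem chain2 {Γ X : Type*} [Group Γ] [MulAction Γ X] {T : Lst X J.n} {gen : ℕ → Γ} {A : Subgroup Γ} (h : J.Model T gen A) : ChainOK h.M J.E (J.el gen) [L2, L3, L4, L5] :=
  h.chain_cons hs (chain3 h) l2 (range_step (lo := 0) 21 range_start q2_0)

theorem chain1 {Γ X : Type*} [Group Γ] [MulAction Γ X] {T : Lst X J.n} {gen : ℕ → Γ} {A : Subgroup Γ} (h : J.Model T gen A) : ChainOK h.M J.E (J.el gen) [L1, L2, L3, L4, L5] :=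
  h.chain_cons hs (chain2 h) l1 (range_step (lo := 0) 22 range_start q1_0)

theorem chain0 {Γ X : Type*} [Group Γ] [MulAction Γ X] {T : Lst X J.n} {gen : ℕ → Γ} {A : Subgroup Γ} (h : J.Model T gen A) : ChainOK h.M J.E (J.el gen) [L0, L1, L2, L3, L4, L5] :=
  h.chain_cons hs (chain1 h) l0 (range_step (lo := 0) 23 range_start q0_0)

theorem GpL_eq {Γ : Type*} [Group Γ] (gen : ℕ → Γ) : GpL (J.el gen) [L0, L1, L2, L3, L4, L5] = J.G gen := Job.GpL_top rfl rfl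

theorem card {Γ X : Type*} [Group Γ] [MulAction Γ X] {T : Lst X J.n} {gen : ℕ → Γ} {A : Subgroup Γ} (h : J.Model T gen A) : Nat.card (J.G gen) = 10200960 := by
  rw [← GpL_eq, (chain0 h).card]; rfl

theorem finite {Γ X : Type*} [Group Γ] [MulAction Γ X] {T : Lst X J.n} {gen : ℕ → Γ} {A : Subgroup Γ} (h : J.Model T gen A) : Finite (J.G gen) := by
  rw [← GpL_eq]; exact (chain0 h).finite

theorem ctx {Γ X : Type*} [Group Γ] [MulAction Γ X] {T : Lst X J.n} {gen : ℕ → Γ} {A : Subgroup Γ} (h : J.Model T gen A) : Ctx h.M J.E (J.el gen) [L0, L1, L2, L3, L4, L5] R :=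
  h.ctx hs (chain0 h) rfl rfl rp

theorem cov134 {Γ X : Type*} [Group Γ] [MulAction Γ X] {T : Lst X J.n} {gen : ℕ → Γ} {A : Subgroup Γ} (h : J.Model T gen A) : Cov h.M (J.el gen) [L0, L1, L2, L3, L4, L5] R [nat_lit 8, nat_lit 16, nat_lit 24, nat_lit 136] :=
  cov_full (ctx h) n134

theorem cov133 {Γ X : Type*} [Group Γ] [MulAction Γ X] {T : Lst X J.n} {gen : ℕ → Γ} {A : Subgroup Γ} (h : J.Model T gen A) : Cov h.M (J.el gen) [L0, L1, L2, L3, L4, L5] R [nat_lit 8, nat_lit 16, nat_lit 24, nat_lit 32, nat_lit 104] :=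
  cov_full (ctx h) n133

theorem cov132 {Γ X : Type*} [Group Γ] [MulAction Γ X] {T : Lst X J.n} {gen : ℕ → Γ} {A : Subgroup Γ} (h : J.Model T gen A) : Cov h.M (J.el gen) [L0, L1, L2, L3, L4, L5] R [nat_lit 8, nat_lit 16, nat_lit 24, nat_lit 32, nat_lit 152] :=
  cov_full (ctx h) n132

theorem cov131 {Γ X : Type*} [Group Γ] [MulAction Γ X] {T : Lst X J.n} {gen : ℕ → Γ} {A : Subgroup Γ} (h : J.Model T gen A) : Cov h.M (J.el gen) [L0, L1, L2, L3, L4, L5] R [nat_lit 8, nat_lit 16, nat_lit 24, nat_lit 32, nat_lit 72] :=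
  cov_full (ctx h) n131

theorem cov130 {Γ X : Type*} [Group Γ] [MulAction Γ X] {T : Lst X J.n} {gen : ℕ → Γ} {A : Subgroup Γ} (h : J.Model T gen A) : Cov h.M (J.el gen) [L0, L1, L2, L3, L4, L5] R [nat_lit 8, nat_lit 16, nat_lit 24, nat_lit 32, nat_lit 80] :=
  cov_full (ctx h) n130

theorem cov129 {Γ X : Type*} [Group Γ] [MulAction Γ X] {T : Lst X J.n} {gen : ℕ → Γ} {A : Subgroup Γ} (h : J.Model T gen A) : Cov h.M (J.el gen) [L0, L1, L2, L3, L4, L5] R [nat_lit 8, nat_lit 16, nat_lit 24, nat_lit 32, nat_lit 40] :=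
  cov_full (ctx h) n129

theorem cov128 {Γ X : Type*} [Group Γ] [MulAction Γ X] {T : Lst X J.n} {gen : ℕ → Γ} {A : Subgroup Γ} (h : J.Model T gen A) : Cov h.M (J.el gen) [L0, L1, L2, L3, L4, L5] R [nat_lit 8, nat_lit 16, nat_lit 24, nat_lit 32, nat_lit 0] :=
  cov_full (ctx h) n128

theorem cov127 {Γ X : Type*} [Group Γ] [MulAction Γ X] {T : Lst X J.n} {gen : ℕ → Γ} {A : Subgroup Γ} (h : J.Model T gen A) : Cov h.M (J.el gen) [L0, L1, L2, L3, L4, L5] R [nat_lit 8, nat_lit 16, nat_lit 24, nat_lit 32] :=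
  cov_red (ctx h) h.hAV n127 (forall_mem_cons' (cov128 h) (forall_mem_cons' (cov129 h) (forall_mem_cons' (cov130 h) (forall_mem_cons' (cov131 h) (forall_mem_cons' (cov132 h) (forall_mem_cons' (cov133 h) forall_mem_nil'))))))

theorem cov126 {Γ X : Type*} [Group Γ] [MulAction Γ X] {T : Lst X J.n} {gen : ℕ → Γ} {A : Subgroup Γ} (h : J.Model T gen A) : Cov h.M (J.el gen) [L0, L1, L2, L3, L4, L5] R [nat_lit 8, nat_lit 16, nat_lit 24, nat_lit 0, nat_lit 128] :=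
  cov_full (ctx h) n126

theorem cov125 {Γ X : Type*} [Group Γ] [MulAction Γ X] {T : Lst X J.n} {gen : ℕ → Γ} {A : Subgroup Γ} (h : J.Model T gen A) : Cov h.M (J.el gen) [L0, L1, L2, L3, L4, L5] R [nat_lit 8, nat_lit 16, nat_lit 24, nat_lit 0, nat_lit 88] :=
  cov_full (ctx h) n125

theorem cov124 {Γ X : Type*} [Group Γ] [MulAction Γ X] {T : Lst X J.n} {gen : ℕ → Γ} {A : Subgroup Γ} (h : J.Model T gen A) : Cov h.M (J.el gen) [L0, L1, L2, L3, L4, L5] R [nat_lit 8, nat_lit 16, nat_lit 24, nat_lit 0, nat_lit 72] :=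
  cov_full (ctx h) n124

theorem cov123 {Γ X : Type*} [Group Γ] [MulAction Γ X] {T : Lst X J.n} {gen : ℕ → Γ} {A : Subgroup Γ} (h : J.Model T gen A) : Cov h.M (J.el gen) [L0, L1, L2, L3, L4, L5] R [nat_lit 8, nat_lit 16, nat_lit 24, nat_lit 0, nat_lit 56] :=
  cov_full (ctx h) n123

theorem cov122 {Γ X : Type*} [Group Γ] [MulAction Γ X] {T : Lst X J.n} {gen : ℕ → Γ} {A : Subgroup Γ} (h : J.Model T gen A) : Cov h.M (J.el gen) [L0, L1, L2, L3, L4, L5] R [nat_lit 8, nat_lit 16, nat_lit 24, nat_lit 0, nat_lit 48] :=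
  cov_full (ctx h) n122

theorem cov121 {Γ X : Type*} [Group Γ] [MulAction Γ X] {T : Lst X J.n} {gen : ℕ → Γ} {A : Subgroup Γ} (h : J.Model T gen A) : Cov h.M (J.el gen) [L0, L1, L2, L3, L4, L5] R [nat_lit 8, nat_lit 16, nat_lit 24, nat_lit 0, nat_lit 32] :=
  cov_full (ctx h) n121

theorem cov120 {Γ X : Type*} [Group Γ] [MulAction Γ X] {T : Lst X J.n} {gen : ℕ → Γ} {A : Subgroup Γ} (h : J.Model T gen A) : Cov h.M (J.el gen) [L0, L1, L2, L3, L4, L5] R [nat_lit 8, nat_lit 16, nat_lit 24, nat_lit 0] :=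
  cov_red (ctx h) h.hAV n120 (forall_mem_cons' (cov121 h) (forall_mem_cons' (cov122 h) (forall_mem_cons' (cov123 h) (forall_mem_cons' (cov124 h) (forall_mem_cons' (cov125 h) (forall_mem_cons' (cov126 h) forall_mem_nil'))))))

theorem cov119 {Γ X : Type*} [Group Γ] [MulAction Γ X] {T : Lst X J.n} {gen : ℕ → Γ} {A : Subgroup Γ} (h : J.Model T gen A) : Cov h.M (J.el gen) [L0, L1, L2, L3, L4, L5] R [nat_lit 8, nat_lit 16, nat_lit 24] :=
  cov_red (ctx h) h.hAV n119 (forall_mem_cons' (cov120 h) (forall_mem_cons' (cov127 h) (forall_mem_cons' (cov134 h) forall_mem_nil')))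

theorem cov118 {Γ X : Type*} [Group Γ] [MulAction Γ X] {T : Lst X J.n} {gen : ℕ → Γ} {A : Subgroup Γ} (h : J.Model T gen A) : Cov h.M (J.el gen) [L0, L1, L2, L3, L4, L5] R [nat_lit 8, nat_lit 16, nat_lit 0, nat_lit 112] :=
  cov_full (ctx h) n118

theorem cov117 {Γ X : Type*} [Group Γ] [MulAction Γ X] {T : Lst X J.n} {gen : ℕ → Γ} {A : Subgroup Γ} (h : J.Model T gen A) : Cov h.M (J.el gen) [L0, L1, L2, L3, L4, L5] R [nat_lit 8, nat_lit 16, nat_lit 0, nat_lit 32, nat_lit 88] :=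
  cov_full (ctx h) n117

theorem cov116 {Γ X : Type*} [Group Γ] [MulAction Γ X] {T : Lst X J.n} {gen : ℕ → Γ} {A : Subgroup Γ} (h : J.Model T gen A) : Cov h.M (J.el gen) [L0, L1, L2, L3, L4, L5] R [nat_lit 8, nat_lit 16, nat_lit 0, nat_lit 32, nat_lit 72] :=
  cov_full (ctx h) n116

theorem cov115 {Γ X : Type*} [Group Γ] [MulAction Γ X] {T : Lst X J.n} {gen : ℕ → Γ} {A : Subgroup Γ} (h : J.Model T gen A) : Cov h.M (J.el gen) [L0, L1, L2, L3, L4, L5] R [nat_lit 8, nat_lit 16, nat_lit 0, nat_lit 32, nat_lit 80] :=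
  cov_full (ctx h) n115

theorem cov114 {Γ X : Type*} [Group Γ] [MulAction Γ X] {T : Lst X J.n} {gen : ℕ → Γ} {A : Subgroup Γ} (h : J.Model T gen A) : Cov h.M (J.el gen) [L0, L1, L2, L3, L4, L5] R [nat_lit 8, nat_lit 16, nat_lit 0, nat_lit 32, nat_lit 120] :=
  cov_full (ctx h) n114

theorem cov113 {Γ X : Type*} [Group Γ] [MulAction Γ X] {T : Lst X J.n} {gen : ℕ → Γ} {A : Subgroup Γ} (h : J.Model T gen A) : Cov h.M (J.el gen) [L0, L1, L2, L3, L4, L5] R [nat_lit 8, nat_lit 16, nat_lit 0, nat_lit 32, nat_lit 112] :=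
  cov_full (ctx h) n113

theorem cov112 {Γ X : Type*} [Group Γ] [MulAction Γ X] {T : Lst X J.n} {gen : ℕ → Γ} {A : Subgroup Γ} (h : J.Model T gen A) : Cov h.M (J.el gen) [L0, L1, L2, L3, L4, L5] R [nat_lit 8, nat_lit 16, nat_lit 0, nat_lit 32, nat_lit 24] :=
  cov_full (ctx h) n112

theorem cov111 {Γ X : Type*} [Group Γ] [MulAction Γ X] {T : Lst X J.n} {gen : ℕ → Γ} {A : Subgroup Γ} (h : J.Model T gen A) : Cov h.M (J.el gen) [L0, L1, L2, L3, L4, L5] R [nat_lit 8, nat_lit 16, nat_lit 0, nat_lit 32] :=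
  cov_red (ctx h) h.hAV n111 (forall_mem_cons' (cov112 h) (forall_mem_cons' (cov113 h) (forall_mem_cons' (cov114 h) (forall_mem_cons' (cov115 h) (forall_mem_cons' (cov116 h) (forall_mem_cons' (cov117 h) forall_mem_nil'))))))

theorem cov110 {Γ X : Type*} [Group Γ] [MulAction Γ X] {T : Lst X J.n} {gen : ℕ → Γ} {A : Subgroup Γ} (h : J.Model T gen A) : Cov h.M (J.el gen) [L0, L1, L2, L3, L4, L5] R [nat_lit 8, nat_lit 16, nat_lit 0, nat_lit 24, nat_lit 104] :=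
  cov_full (ctx h) n110

theorem cov109 {Γ X : Type*} [Group Γ] [MulAction Γ X] {T : Lst X J.n} {gen : ℕ → Γ} {A : Subgroup Γ} (h : J.Model T gen A) : Cov h.M (J.el gen) [L0, L1, L2, L3, L4, L5] R [nat_lit 8, nat_lit 16, nat_lit 0, nat_lit 24, nat_lit 160] :=
  cov_full (ctx h) n109

theorem cov108 {Γ X : Type*} [Group Γ] [MulAction Γ X] {T : Lst X J.n} {gen : ℕ → Γ} {A : Subgroup Γ} (h : J.Model T gen A) : Cov h.M (J.el gen) [L0, L1, L2, L3, L4, L5] R [nat_lit 8, nat_lit 16, nat_lit 0, nat_lit 24, nat_lit 72] :=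
  cov_full (ctx h) n108

theorem cov107 {Γ X : Type*} [Group Γ] [MulAction Γ X] {T : Lst X J.n} {gen : ℕ → Γ} {A : Subgroup Γ} (h : J.Model T gen A) : Cov h.M (J.el gen) [L0, L1, L2, L3, L4, L5] R [nat_lit 8, nat_lit 16, nat_lit 0, nat_lit 24, nat_lit 80] :=
  cov_full (ctx h) n107

theorem cov106 {Γ X : Type*} [Group Γ] [MulAction Γ X] {T : Lst X J.n} {gen : ℕ → Γ} {A : Subgroup Γ} (h : J.Model T gen A) : Cov h.M (J.el gen) [L0, L1, L2, L3, L4, L5] R [nat_lit 8, nat_lit 16, nat_lit 0, nat_lit 24, nat_lit 144] :=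
  cov_full (ctx h) n106

theorem cov105 {Γ X : Type*} [Group Γ] [MulAction Γ X] {T : Lst X J.n} {gen : ℕ → Γ} {A : Subgroup Γ} (h : J.Model T gen A) : Cov h.M (J.el gen) [L0, L1, L2, L3, L4, L5] R [nat_lit 8, nat_lit 16, nat_lit 0, nat_lit 24, nat_lit 32] :=
  cov_full (ctx h) n105

theorem cov104 {Γ X : Type*} [Group Γ] [MulAction Γ X] {T : Lst X J.n} {gen : ℕ → Γ} {A : Subgroup Γ} (h : J.Model T gen A) : Cov h.M (J.el gen) [L0, L1, L2, L3, L4, L5] R [nat_lit 8, nat_lit 16, nat_lit 0, nat_lit 24] :=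
  cov_red (ctx h) h.hAV n104 (forall_mem_cons' (cov105 h) (forall_mem_cons' (cov106 h) (forall_mem_cons' (cov107 h) (forall_mem_cons' (cov108 h) (forall_mem_cons' (cov109 h) (forall_mem_cons' (cov110 h) forall_mem_nil'))))))

theorem cov103 {Γ X : Type*} [Group Γ] [MulAction Γ X] {T : Lst X J.n} {gen : ℕ → Γ} {A : Subgroup Γ} (h : J.Model T gen A) : Cov h.M (J.el gen) [L0, L1, L2, L3, L4, L5] R [nat_lit 8, nat_lit 16, nat_lit 0] :=
  cov_red (ctx h) h.hAV n103 (forall_mem_cons' (cov104 h) (forall_mem_cons' (cov111 h) (forall_mem_cons' (cov118 h) forall_mem_nil')))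

theorem cov102 {Γ X : Type*} [Group Γ] [MulAction Γ X] {T : Lst X J.n} {gen : ℕ → Γ} {A : Subgroup Γ} (h : J.Model T gen A) : Cov h.M (J.el gen) [L0, L1, L2, L3, L4, L5] R [nat_lit 8, nat_lit 16] :=
  cov_red (ctx h) h.hAV n102 (forall_mem_cons' (cov103 h) (forall_mem_cons' (cov119 h) forall_mem_nil'))

theorem cov101 {Γ X : Type*} [Group Γ] [MulAction Γ X] {T : Lst X J.n} {gen : ℕ → Γ} {A : Subgroup Γ} (h : J.Model T gen A) : Cov h.M (J.el gen) [L0, L1, L2, L3, L4, L5] R [nat_lit 8, nat_lit 0, nat_lit 24, nat_lit 40] :=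
  cov_full (ctx h) n101

theorem cov100 {Γ X : Type*} [Group Γ] [MulAction Γ X] {T : Lst X J.n} {gen : ℕ → Γ} {A : Subgroup Γ} (h : J.Model T gen A) : Cov h.M (J.el gen) [L0, L1, L2, L3, L4, L5] R [nat_lit 8, nat_lit 0, nat_lit 24, nat_lit 32, nat_lit 104] :=
  cov_full (ctx h) n100

theorem cov99 {Γ X : Type*} [Group Γ] [MulAction Γ X] {T : Lst X J.n} {gen : ℕ → Γ} {A : Subgroup Γ} (h : J.Model T gen A) : Cov h.M (J.el gen) [L0, L1, L2, L3, L4, L5] R [nat_lit 8, nat_lit 0, nat_lit 24, nat_lit 32, nat_lit 64] :=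
  cov_full (ctx h) n99

theorem cov98 {Γ X : Type*} [Group Γ] [MulAction Γ X] {T : Lst X J.n} {gen : ℕ → Γ} {A : Subgroup Γ} (h : J.Model T gen A) : Cov h.M (J.el gen) [L0, L1, L2, L3, L4, L5] R [nat_lit 8, nat_lit 0, nat_lit 24, nat_lit 32, nat_lit 80] :=
  cov_full (ctx h) n98

theorem cov97 {Γ X : Type*} [Group Γ] [MulAction Γ X] {T : Lst X J.n} {gen : ℕ → Γ} {A : Subgroup Γ} (h : J.Model T gen A) : Cov h.M (J.el gen) [L0, L1, L2, L3, L4, L5] R [nat_lit 8, nat_lit 0, nat_lit 24, nat_lit 32, nat_lit 48] :=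
  cov_full (ctx h) n97

theorem cov96 {Γ X : Type*} [Group Γ] [MulAction Γ X] {T : Lst X J.n} {gen : ℕ → Γ} {A : Subgroup Γ} (h : J.Model T gen A) : Cov h.M (J.el gen) [L0, L1, L2, L3, L4, L5] R [nat_lit 8, nat_lit 0, nat_lit 24, nat_lit 32, nat_lit 112] :=
  cov_full (ctx h) n96

theorem cov95 {Γ X : Type*} [Group Γ] [MulAction Γ X] {T : Lst X J.n} {gen : ℕ → Γ} {A : Subgroup Γ} (h : J.Model T gen A) : Cov h.M (J.el gen) [L0, L1, L2, L3, L4, L5] R [nat_lit 8, nat_lit 0, nat_lit 24, nat_lit 32, nat_lit 16] :=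
  cov_full (ctx h) n95

theorem cov94 {Γ X : Type*} [Group Γ] [MulAction Γ X] {T : Lst X J.n} {gen : ℕ → Γ} {A : Subgroup Γ} (h : J.Model T gen A) : Cov h.M (J.el gen) [L0, L1, L2, L3, L4, L5] R [nat_lit 8, nat_lit 0, nat_lit 24, nat_lit 32] :=
  cov_red (ctx h) h.hAV n94 (forall_mem_cons' (cov95 h) (forall_mem_cons' (cov96 h) (forall_mem_cons' (cov97 h) (forall_mem_cons' (cov98 h) (forall_mem_cons' (cov99 h) (forall_mem_cons' (cov100 h) forall_mem_nil'))))))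

theorem cov93 {Γ X : Type*} [Group Γ] [MulAction Γ X] {T : Lst X J.n} {gen : ℕ → Γ} {A : Subgroup Γ} (h : J.Model T gen A) : Cov h.M (J.el gen) [L0, L1, L2, L3, L4, L5] R [nat_lit 8, nat_lit 0, nat_lit 24, nat_lit 16, nat_lit 176] :=
  cov_full (ctx h) n93

theorem cov92 {Γ X : Type*} [Group Γ] [MulAction Γ X] {T : Lst X J.n} {gen : ℕ → Γ} {A : Subgroup Γ} (h : J.Model T gen A) : Cov h.M (J.el gen) [L0, L1, L2, L3, L4, L5] R [nat_lit 8, nat_lit 0, nat_lit 24, nat_lit 16, nat_lit 160] :=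
  cov_full (ctx h) n92

theorem cov91 {Γ X : Type*} [Group Γ] [MulAction Γ X] {T : Lst X J.n} {gen : ℕ → Γ} {A : Subgroup Γ} (h : J.Model T gen A) : Cov h.M (J.el gen) [L0, L1, L2, L3, L4, L5] R [nat_lit 8, nat_lit 0, nat_lit 24, nat_lit 16, nat_lit 64] :=
  cov_full (ctx h) n91

theorem cov90 {Γ X : Type*} [Group Γ] [MulAction Γ X] {T : Lst X J.n} {gen : ℕ → Γ} {A : Subgroup Γ} (h : J.Model T gen A) : Cov h.M (J.el gen) [L0, L1, L2, L3, L4, L5] R [nat_lit 8, nat_lit 0, nat_lit 24, nat_lit 16, nat_lit 80] :=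
  cov_full (ctx h) n90

theorem cov89 {Γ X : Type*} [Group Γ] [MulAction Γ X] {T : Lst X J.n} {gen : ℕ → Γ} {A : Subgroup Γ} (h : J.Model T gen A) : Cov h.M (J.el gen) [L0, L1, L2, L3, L4, L5] R [nat_lit 8, nat_lit 0, nat_lit 24, nat_lit 16, nat_lit 48] :=
  cov_full (ctx h) n89

theorem cov88 {Γ X : Type*} [Group Γ] [MulAction Γ X] {T : Lst X J.n} {gen : ℕ → Γ} {A : Subgroup Γ} (h : J.Model T gen A) : Cov h.M (J.el gen) [L0, L1, L2, L3, L4, L5] R [nat_lit 8, nat_lit 0, nat_lit 24, nat_lit 16, nat_lit 32] :=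
  cov_full (ctx h) n88

theorem cov87 {Γ X : Type*} [Group Γ] [MulAction Γ X] {T : Lst X J.n} {gen : ℕ → Γ} {A : Subgroup Γ} (h : J.Model T gen A) : Cov h.M (J.el gen) [L0, L1, L2, L3, L4, L5] R [nat_lit 8, nat_lit 0, nat_lit 24, nat_lit 16] :=
  cov_red (ctx h) h.hAV n87 (forall_mem_cons' (cov88 h) (forall_mem_cons' (cov89 h) (forall_mem_cons' (cov90 h) (forall_mem_cons' (cov91 h) (forall_mem_cons' (cov92 h) (forall_mem_cons' (cov93 h) forall_mem_nil'))))))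

theorem cov86 {Γ X : Type*} [Group Γ] [MulAction Γ X] {T : Lst X J.n} {gen : ℕ → Γ} {A : Subgroup Γ} (h : J.Model T gen A) : Cov h.M (J.el gen) [L0, L1, L2, L3, L4, L5] R [nat_lit 8, nat_lit 0, nat_lit 24] :=
  cov_red (ctx h) h.hAV n86 (forall_mem_cons' (cov87 h) (forall_mem_cons' (cov94 h) (forall_mem_cons' (cov101 h) forall_mem_nil')))

theorem cov85 {Γ X : Type*} [Group Γ] [MulAction Γ X] {T : Lst X J.n} {gen : ℕ → Γ} {A : Subgroup Γ} (h : J.Model T gen A) : Cov h.M (J.el gen) [L0, L1, L2, L3, L4, L5] R [nat_lit 8, nat_lit 0, nat_lit 16, nat_lit 40] :=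
  cov_full (ctx h) n85

theorem cov84 {Γ X : Type*} [Group Γ] [MulAction Γ X] {T : Lst X J.n} {gen : ℕ → Γ} {A : Subgroup Γ} (h : J.Model T gen A) : Cov h.M (J.el gen) [L0, L1, L2, L3, L4, L5] R [nat_lit 8, nat_lit 0, nat_lit 16, nat_lit 32, nat_lit 88] :=
  cov_full (ctx h) n84

theorem cov83 {Γ X : Type*} [Group Γ] [MulAction Γ X] {T : Lst X J.n} {gen : ℕ → Γ} {A : Subgroup Γ} (h : J.Model T gen A) : Cov h.M (J.el gen) [L0, L1, L2, L3, L4, L5] R [nat_lit 8, nat_lit 0, nat_lit 16, nat_lit 32, nat_lit 64] :=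
  cov_full (ctx h) n83

theorem cov82 {Γ X : Type*} [Group Γ] [MulAction Γ X] {T : Lst X J.n} {gen : ℕ → Γ} {A : Subgroup Γ} (h : J.Model T gen A) : Cov h.M (J.el gen) [L0, L1, L2, L3, L4, L5] R [nat_lit 8, nat_lit 0, nat_lit 16, nat_lit 32, nat_lit 56] :=
  cov_full (ctx h) n82

theorem cov81 {Γ X : Type*} [Group Γ] [MulAction Γ X] {T : Lst X J.n} {gen : ℕ → Γ} {A : Subgroup Γ} (h : J.Model T gen A) : Cov h.M (J.el gen) [L0, L1, L2, L3, L4, L5] R [nat_lit 8, nat_lit 0, nat_lit 16, nat_lit 32, nat_lit 144] :=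
  cov_full (ctx h) n81

theorem cov80 {Γ X : Type*} [Group Γ] [MulAction Γ X] {T : Lst X J.n} {gen : ℕ → Γ} {A : Subgroup Γ} (h : J.Model T gen A) : Cov h.M (J.el gen) [L0, L1, L2, L3, L4, L5] R [nat_lit 8, nat_lit 0, nat_lit 16, nat_lit 32, nat_lit 112] :=
  cov_full (ctx h) n80

theorem cov79 {Γ X : Type*} [Group Γ] [MulAction Γ X] {T : Lst X J.n} {gen : ℕ → Γ} {A : Subgroup Γ} (h : J.Model T gen A) : Cov h.M (J.el gen) [L0, L1, L2, L3, L4, L5] R [nat_lit 8, nat_lit 0, nat_lit 16, nat_lit 32, nat_lit 24] :=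
  cov_full (ctx h) n79

theorem cov78 {Γ X : Type*} [Group Γ] [MulAction Γ X] {T : Lst X J.n} {gen : ℕ → Γ} {A : Subgroup Γ} (h : J.Model T gen A) : Cov h.M (J.el gen) [L0, L1, L2, L3, L4, L5] R [nat_lit 8, nat_lit 0, nat_lit 16, nat_lit 32] :=
  cov_red (ctx h) h.hAV n78 (forall_mem_cons' (cov79 h) (forall_mem_cons' (cov80 h) (forall_mem_cons' (cov81 h) (forall_mem_cons' (cov82 h) (forall_mem_cons' (cov83 h) (forall_mem_cons' (cov84 h) forall_mem_nil'))))))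

theorem cov77 {Γ X : Type*} [Group Γ] [MulAction Γ X] {T : Lst X J.n} {gen : ℕ → Γ} {A : Subgroup Γ} (h : J.Model T gen A) : Cov h.M (J.el gen) [L0, L1, L2, L3, L4, L5] R [nat_lit 8, nat_lit 0, nat_lit 16, nat_lit 24, nat_lit 104] :=
  cov_full (ctx h) n77

theorem cov76 {Γ X : Type*} [Group Γ] [MulAction Γ X] {T : Lst X J.n} {gen : ℕ → Γ} {A : Subgroup Γ} (h : J.Model T gen A) : Cov h.M (J.el gen) [L0, L1, L2, L3, L4, L5] R [nat_lit 8, nat_lit 0, nat_lit 16, nat_lit 24, nat_lit 160] :=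
  cov_full (ctx h) n76

theorem cov75 {Γ X : Type*} [Group Γ] [MulAction Γ X] {T : Lst X J.n} {gen : ℕ → Γ} {A : Subgroup Γ} (h : J.Model T gen A) : Cov h.M (J.el gen) [L0, L1, L2, L3, L4, L5] R [nat_lit 8, nat_lit 0, nat_lit 16, nat_lit 24, nat_lit 72] :=
  cov_full (ctx h) n75

theorem cov74 {Γ X : Type*} [Group Γ] [MulAction Γ X] {T : Lst X J.n} {gen : ℕ → Γ} {A : Subgroup Γ} (h : J.Model T gen A) : Cov h.M (J.el gen) [L0, L1, L2, L3, L4, L5] R [nat_lit 8, nat_lit 0, nat_lit 16, nat_lit 24, nat_lit 80] :=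
  cov_full (ctx h) n74

theorem cov73 {Γ X : Type*} [Group Γ] [MulAction Γ X] {T : Lst X J.n} {gen : ℕ → Γ} {A : Subgroup Γ} (h : J.Model T gen A) : Cov h.M (J.el gen) [L0, L1, L2, L3, L4, L5] R [nat_lit 8, nat_lit 0, nat_lit 16, nat_lit 24, nat_lit 120] :=
  cov_full (ctx h) n73

theorem cov72 {Γ X : Type*} [Group Γ] [MulAction Γ X] {T : Lst X J.n} {gen : ℕ → Γ} {A : Subgroup Γ} (h : J.Model T gen A) : Cov h.M (J.el gen) [L0, L1, L2, L3, L4, L5] R [nat_lit 8, nat_lit 0, nat_lit 16, nat_lit 24, nat_lit 32] :=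
  cov_full (ctx h) n72

theorem cov71 {Γ X : Type*} [Group Γ] [MulAction Γ X] {T : Lst X J.n} {gen : ℕ → Γ} {A : Subgroup Γ} (h : J.Model T gen A) : Cov h.M (J.el gen) [L0, L1, L2, L3, L4, L5] R [nat_lit 8, nat_lit 0, nat_lit 16, nat_lit 24] :=
  cov_red (ctx h) h.hAV n71 (forall_mem_cons' (cov72 h) (forall_mem_cons' (cov73 h) (forall_mem_cons' (cov74 h) (forall_mem_cons' (cov75 h) (forall_mem_cons' (cov76 h) (forall_mem_cons' (cov77 h) forall_mem_nil'))))))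

theorem cov70 {Γ X : Type*} [Group Γ] [MulAction Γ X] {T : Lst X J.n} {gen : ℕ → Γ} {A : Subgroup Γ} (h : J.Model T gen A) : Cov h.M (J.el gen) [L0, L1, L2, L3, L4, L5] R [nat_lit 8, nat_lit 0, nat_lit 16] :=
  cov_red (ctx h) h.hAV n70 (forall_mem_cons' (cov71 h) (forall_mem_cons' (cov78 h) (forall_mem_cons' (cov85 h) forall_mem_nil')))

theorem cov69 {Γ X : Type*} [Group Γ] [MulAction Γ X] {T : Lst X J.n} {gen : ℕ → Γ} {A : Subgroup Γ} (h : J.Model T gen A) : Cov h.M (J.el gen) [L0, L1, L2, L3, L4, L5] R [nat_lit 8, nat_lit 0] :=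
  cov_red (ctx h) h.hAV n69 (forall_mem_cons' (cov70 h) (forall_mem_cons' (cov86 h) forall_mem_nil'))

theorem cov68 {Γ X : Type*} [Group Γ] [MulAction Γ X] {T : Lst X J.n} {gen : ℕ → Γ} {A : Subgroup Γ} (h : J.Model T gen A) : Cov h.M (J.el gen) [L0, L1, L2, L3, L4, L5] R [nat_lit 8] :=
  cov_red (ctx h) h.hAV n68 (forall_mem_cons' (cov69 h) (forall_mem_cons' (cov102 h) forall_mem_nil'))

theorem cov67 {Γ X : Type*} [Group Γ] [MulAction Γ X] {T : Lst X J.n} {gen : ℕ → Γ} {A : Subgroup Γ} (h : J.Model T gen A) : Cov h.M (J.el gen) [L0, L1, L2, L3, L4, L5] R [nat_lit 0, nat_lit 16, nat_lit 24, nat_lit 112] :=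
  cov_full (ctx h) n67

theorem cov66 {Γ X : Type*} [Group Γ] [MulAction Γ X] {T : Lst X J.n} {gen : ℕ → Γ} {A : Subgroup Γ} (h : J.Model T gen A) : Cov h.M (J.el gen) [L0, L1, L2, L3, L4, L5] R [nat_lit 0, nat_lit 16, nat_lit 24, nat_lit 32, nat_lit 128] :=
  cov_full (ctx h) n66

theorem cov65 {Γ X : Type*} [Group Γ] [MulAction Γ X] {T : Lst X J.n} {gen : ℕ → Γ} {A : Subgroup Γ} (h : J.Model T gen A) : Cov h.M (J.el gen) [L0, L1, L2, L3, L4, L5] R [nat_lit 0, nat_lit 16, nat_lit 24, nat_lit 32, nat_lit 160] :=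
  cov_full (ctx h) n65

theorem cov64 {Γ X : Type*} [Group Γ] [MulAction Γ X] {T : Lst X J.n} {gen : ℕ → Γ} {A : Subgroup Γ} (h : J.Model T gen A) : Cov h.M (J.el gen) [L0, L1, L2, L3, L4, L5] R [nat_lit 0, nat_lit 16, nat_lit 24, nat_lit 32, nat_lit 56] :=
  cov_full (ctx h) n64

theorem cov63 {Γ X : Type*} [Group Γ] [MulAction Γ X] {T : Lst X J.n} {gen : ℕ → Γ} {A : Subgroup Γ} (h : J.Model T gen A) : Cov h.M (J.el gen) [L0, L1, L2, L3, L4, L5] R [nat_lit 0, nat_lit 16, nat_lit 24, nat_lit 32, nat_lit 48] :=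
  cov_full (ctx h) n63

theorem cov62 {Γ X : Type*} [Group Γ] [MulAction Γ X] {T : Lst X J.n} {gen : ℕ → Γ} {A : Subgroup Γ} (h : J.Model T gen A) : Cov h.M (J.el gen) [L0, L1, L2, L3, L4, L5] R [nat_lit 0, nat_lit 16, nat_lit 24, nat_lit 32, nat_lit 112] :=
  cov_full (ctx h) n62

theorem cov61 {Γ X : Type*} [Group Γ] [MulAction Γ X] {T : Lst X J.n} {gen : ℕ → Γ} {A : Subgroup Γ} (h : J.Model T gen A) : Cov h.M (J.el gen) [L0, L1, L2, L3, L4, L5] R [nat_lit 0, nat_lit 16, nat_lit 24, nat_lit 32, nat_lit 8] :=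
  cov_full (ctx h) n61

theorem cov60 {Γ X : Type*} [Group Γ] [MulAction Γ X] {T : Lst X J.n} {gen : ℕ → Γ} {A : Subgroup Γ} (h : J.Model T gen A) : Cov h.M (J.el gen) [L0, L1, L2, L3, L4, L5] R [nat_lit 0, nat_lit 16, nat_lit 24, nat_lit 32] :=
  cov_red (ctx h) h.hAV n60 (forall_mem_cons' (cov61 h) (forall_mem_cons' (cov62 h) (forall_mem_cons' (cov63 h) (forall_mem_cons' (cov64 h) (forall_mem_cons' (cov65 h) (forall_mem_cons' (cov66 h) forall_mem_nil'))))))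

theorem cov59 {Γ X : Type*} [Group Γ] [MulAction Γ X] {T : Lst X J.n} {gen : ℕ → Γ} {A : Subgroup Γ} (h : J.Model T gen A) : Cov h.M (J.el gen) [L0, L1, L2, L3, L4, L5] R [nat_lit 0, nat_lit 16, nat_lit 24, nat_lit 8, nat_lit 104] :=
  cov_full (ctx h) n59

theorem cov58 {Γ X : Type*} [Group Γ] [MulAction Γ X] {T : Lst X J.n} {gen : ℕ → Γ} {A : Subgroup Γ} (h : J.Model T gen A) : Cov h.M (J.el gen) [L0, L1, L2, L3, L4, L5] R [nat_lit 0, nat_lit 16, nat_lit 24, nat_lit 8, nat_lit 88] :=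
  cov_full (ctx h) n58

theorem cov57 {Γ X : Type*} [Group Γ] [MulAction Γ X] {T : Lst X J.n} {gen : ℕ → Γ} {A : Subgroup Γ} (h : J.Model T gen A) : Cov h.M (J.el gen) [L0, L1, L2, L3, L4, L5] R [nat_lit 0, nat_lit 16, nat_lit 24, nat_lit 8, nat_lit 72] :=
  cov_full (ctx h) n57

theorem cov56 {Γ X : Type*} [Group Γ] [MulAction Γ X] {T : Lst X J.n} {gen : ℕ → Γ} {A : Subgroup Γ} (h : J.Model T gen A) : Cov h.M (J.el gen) [L0, L1, L2, L3, L4, L5] R [nat_lit 0, nat_lit 16, nat_lit 24, nat_lit 8, nat_lit 56] :=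
  cov_full (ctx h) n56

theorem cov55 {Γ X : Type*} [Group Γ] [MulAction Γ X] {T : Lst X J.n} {gen : ℕ → Γ} {A : Subgroup Γ} (h : J.Model T gen A) : Cov h.M (J.el gen) [L0, L1, L2, L3, L4, L5] R [nat_lit 0, nat_lit 16, nat_lit 24, nat_lit 8, nat_lit 48] :=
  cov_full (ctx h) n55

theorem cov54 {Γ X : Type*} [Group Γ] [MulAction Γ X] {T : Lst X J.n} {gen : ℕ → Γ} {A : Subgroup Γ} (h : J.Model T gen A) : Cov h.M (J.el gen) [L0, L1, L2, L3, L4, L5] R [nat_lit 0, nat_lit 16, nat_lit 24, nat_lit 8, nat_lit 32] :=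
  cov_full (ctx h) n54

theorem cov53 {Γ X : Type*} [Group Γ] [MulAction Γ X] {T : Lst X J.n} {gen : ℕ → Γ} {A : Subgroup Γ} (h : J.Model T gen A) : Cov h.M (J.el gen) [L0, L1, L2, L3, L4, L5] R [nat_lit 0, nat_lit 16, nat_lit 24, nat_lit 8] :=
  cov_red (ctx h) h.hAV n53 (forall_mem_cons' (cov54 h) (forall_mem_cons' (cov55 h) (forall_mem_cons' (cov56 h) (forall_mem_cons' (cov57 h) (forall_mem_cons' (cov58 h) (forall_mem_cons' (cov59 h) forall_mem_nil'))))))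

theorem cov52 {Γ X : Type*} [Group Γ] [MulAction Γ X] {T : Lst X J.n} {gen : ℕ → Γ} {A : Subgroup Γ} (h : J.Model T gen A) : Cov h.M (J.el gen) [L0, L1, L2, L3, L4, L5] R [nat_lit 0, nat_lit 16, nat_lit 24] :=
  cov_red (ctx h) h.hAV n52 (forall_mem_cons' (cov53 h) (forall_mem_cons' (cov60 h) (forall_mem_cons' (cov67 h) forall_mem_nil')))

theorem cov51 {Γ X : Type*} [Group Γ] [MulAction Γ X] {T : Lst X J.n} {gen : ℕ → Γ} {A : Subgroup Γ} (h : J.Model T gen A) : Cov h.M (J.el gen) [L0, L1, L2, L3, L4, L5] R [nat_lit 0, nat_lit 16, nat_lit 8, nat_lit 40] :=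
  cov_full (ctx h) n51

theorem cov50 {Γ X : Type*} [Group Γ] [MulAction Γ X] {T : Lst X J.n} {gen : ℕ → Γ} {A : Subgroup Γ} (h : J.Model T gen A) : Cov h.M (J.el gen) [L0, L1, L2, L3, L4, L5] R [nat_lit 0, nat_lit 16, nat_lit 8, nat_lit 32, nat_lit 88] :=
  cov_full (ctx h) n50

theorem cov49 {Γ X : Type*} [Group Γ] [MulAction Γ X] {T : Lst X J.n} {gen : ℕ → Γ} {A : Subgroup Γ} (h : J.Model T gen A) : Cov h.M (J.el gen) [L0, L1, L2, L3, L4, L5] R [nat_lit 0, nat_lit 16, nat_lit 8, nat_lit 32, nat_lit 168] :=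
  cov_full (ctx h) n49

theorem cov48 {Γ X : Type*} [Group Γ] [MulAction Γ X] {T : Lst X J.n} {gen : ℕ → Γ} {A : Subgroup Γ} (h : J.Model T gen A) : Cov h.M (J.el gen) [L0, L1, L2, L3, L4, L5] R [nat_lit 0, nat_lit 16, nat_lit 8, nat_lit 32, nat_lit 56] :=
  cov_full (ctx h) n48

theorem cov47 {Γ X : Type*} [Group Γ] [MulAction Γ X] {T : Lst X J.n} {gen : ℕ → Γ} {A : Subgroup Γ} (h : J.Model T gen A) : Cov h.M (J.el gen) [L0, L1, L2, L3, L4, L5] R [nat_lit 0, nat_lit 16, nat_lit 8, nat_lit 32, nat_lit 48] :=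
  cov_full (ctx h) n47

theorem cov46 {Γ X : Type*} [Group Γ] [MulAction Γ X] {T : Lst X J.n} {gen : ℕ → Γ} {A : Subgroup Γ} (h : J.Model T gen A) : Cov h.M (J.el gen) [L0, L1, L2, L3, L4, L5] R [nat_lit 0, nat_lit 16, nat_lit 8, nat_lit 32, nat_lit 40] :=
  cov_full (ctx h) n46

theorem cov45 {Γ X : Type*} [Group Γ] [MulAction Γ X] {T : Lst X J.n} {gen : ℕ → Γ} {A : Subgroup Γ} (h : J.Model T gen A) : Cov h.M (J.el gen) [L0, L1, L2, L3, L4, L5] R [nat_lit 0, nat_lit 16, nat_lit 8, nat_lit 32, nat_lit 24] :=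
  cov_full (ctx h) n45

theorem cov44 {Γ X : Type*} [Group Γ] [MulAction Γ X] {T : Lst X J.n} {gen : ℕ → Γ} {A : Subgroup Γ} (h : J.Model T gen A) : Cov h.M (J.el gen) [L0, L1, L2, L3, L4, L5] R [nat_lit 0, nat_lit 16, nat_lit 8, nat_lit 32] :=
  cov_red (ctx h) h.hAV n44 (forall_mem_cons' (cov45 h) (forall_mem_cons' (cov46 h) (forall_mem_cons' (cov47 h) (forall_mem_cons' (cov48 h) (forall_mem_cons' (cov49 h) (forall_mem_cons' (cov50 h) forall_mem_nil'))))))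

theorem cov43 {Γ X : Type*} [Group Γ] [MulAction Γ X] {T : Lst X J.n} {gen : ℕ → Γ} {A : Subgroup Γ} (h : J.Model T gen A) : Cov h.M (J.el gen) [L0, L1, L2, L3, L4, L5] R [nat_lit 0, nat_lit 16, nat_lit 8, nat_lit 24, nat_lit 104] :=
  cov_full (ctx h) n43

theorem cov42 {Γ X : Type*} [Group Γ] [MulAction Γ X] {T : Lst X J.n} {gen : ℕ → Γ} {A : Subgroup Γ} (h : J.Model T gen A) : Cov h.M (J.el gen) [L0, L1, L2, L3, L4, L5] R [nat_lit 0, nat_lit 16, nat_lit 8, nat_lit 24, nat_lit 152] :=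
  cov_full (ctx h) n42

theorem cov41 {Γ X : Type*} [Group Γ] [MulAction Γ X] {T : Lst X J.n} {gen : ℕ → Γ} {A : Subgroup Γ} (h : J.Model T gen A) : Cov h.M (J.el gen) [L0, L1, L2, L3, L4, L5] R [nat_lit 0, nat_lit 16, nat_lit 8, nat_lit 24, nat_lit 64] :=
  cov_full (ctx h) n41

theorem cov40 {Γ X : Type*} [Group Γ] [MulAction Γ X] {T : Lst X J.n} {gen : ℕ → Γ} {A : Subgroup Γ} (h : J.Model T gen A) : Cov h.M (J.el gen) [L0, L1, L2, L3, L4, L5] R [nat_lit 0, nat_lit 16, nat_lit 8, nat_lit 24, nat_lit 56] :=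
  cov_full (ctx h) n40

theorem cov39 {Γ X : Type*} [Group Γ] [MulAction Γ X] {T : Lst X J.n} {gen : ℕ → Γ} {A : Subgroup Γ} (h : J.Model T gen A) : Cov h.M (J.el gen) [L0, L1, L2, L3, L4, L5] R [nat_lit 0, nat_lit 16, nat_lit 8, nat_lit 24, nat_lit 48] :=
  cov_full (ctx h) n39

theorem cov38 {Γ X : Type*} [Group Γ] [MulAction Γ X] {T : Lst X J.n} {gen : ℕ → Γ} {A : Subgroup Γ} (h : J.Model T gen A) : Cov h.M (J.el gen) [L0, L1, L2, L3, L4, L5] R [nat_lit 0, nat_lit 16, nat_lit 8, nat_lit 24, nat_lit 32] :=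
  cov_full (ctx h) n38

theorem cov37 {Γ X : Type*} [Group Γ] [MulAction Γ X] {T : Lst X J.n} {gen : ℕ → Γ} {A : Subgroup Γ} (h : J.Model T gen A) : Cov h.M (J.el gen) [L0, L1, L2, L3, L4, L5] R [nat_lit 0, nat_lit 16, nat_lit 8, nat_lit 24] :=
  cov_red (ctx h) h.hAV n37 (forall_mem_cons' (cov38 h) (forall_mem_cons' (cov39 h) (forall_mem_cons' (cov40 h) (forall_mem_cons' (cov41 h) (forall_mem_cons' (cov42 h) (forall_mem_cons' (cov43 h) forall_mem_nil'))))))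

theorem cov36 {Γ X : Type*} [Group Γ] [MulAction Γ X] {T : Lst X J.n} {gen : ℕ → Γ} {A : Subgroup Γ} (h : J.Model T gen A) : Cov h.M (J.el gen) [L0, L1, L2, L3, L4, L5] R [nat_lit 0, nat_lit 16, nat_lit 8] :=
  cov_red (ctx h) h.hAV n36 (forall_mem_cons' (cov37 h) (forall_mem_cons' (cov44 h) (forall_mem_cons' (cov51 h) forall_mem_nil')))

theorem cov35 {Γ X : Type*} [Group Γ] [MulAction Γ X] {T : Lst X J.n} {gen : ℕ → Γ} {A : Subgroup Γ} (h : J.Model T gen A) : Cov h.M (J.el gen) [L0, L1, L2, L3, L4, L5] R [nat_lit 0, nat_lit 16] :=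
  cov_red (ctx h) h.hAV n35 (forall_mem_cons' (cov36 h) (forall_mem_cons' (cov52 h) forall_mem_nil'))

theorem cov34 {Γ X : Type*} [Group Γ] [MulAction Γ X] {T : Lst X J.n} {gen : ℕ → Γ} {A : Subgroup Γ} (h : J.Model T gen A) : Cov h.M (J.el gen) [L0, L1, L2, L3, L4, L5] R [nat_lit 0, nat_lit 8, nat_lit 24, nat_lit 40] :=
  cov_full (ctx h) n34

theorem cov33 {Γ X : Type*} [Group Γ] [MulAction Γ X] {T : Lst X J.n} {gen : ℕ → Γ} {A : Subgroup Γ} (h : J.Model T gen A) : Cov h.M (J.el gen) [L0, L1, L2, L3, L4, L5] R [nat_lit 0, nat_lit 8, nat_lit 24, nat_lit 32, nat_lit 128] :=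
  cov_full (ctx h) n33

theorem cov32 {Γ X : Type*} [Group Γ] [MulAction Γ X] {T : Lst X J.n} {gen : ℕ → Γ} {A : Subgroup Γ} (h : J.Model T gen A) : Cov h.M (J.el gen) [L0, L1, L2, L3, L4, L5] R [nat_lit 0, nat_lit 8, nat_lit 24, nat_lit 32, nat_lit 72] :=
  cov_full (ctx h) n32

theorem cov31 {Γ X : Type*} [Group Γ] [MulAction Γ X] {T : Lst X J.n} {gen : ℕ → Γ} {A : Subgroup Γ} (h : J.Model T gen A) : Cov h.M (J.el gen) [L0, L1, L2, L3, L4, L5] R [nat_lit 0, nat_lit 8, nat_lit 24, nat_lit 32, nat_lit 56] :=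
  cov_full (ctx h) n31

theorem cov30 {Γ X : Type*} [Group Γ] [MulAction Γ X] {T : Lst X J.n} {gen : ℕ → Γ} {A : Subgroup Γ} (h : J.Model T gen A) : Cov h.M (J.el gen) [L0, L1, L2, L3, L4, L5] R [nat_lit 0, nat_lit 8, nat_lit 24, nat_lit 32, nat_lit 120] :=
  cov_full (ctx h) n30

theorem cov29 {Γ X : Type*} [Group Γ] [MulAction Γ X] {T : Lst X J.n} {gen : ℕ → Γ} {A : Subgroup Γ} (h : J.Model T gen A) : Cov h.M (J.el gen) [L0, L1, L2, L3, L4, L5] R [nat_lit 0, nat_lit 8, nat_lit 24, nat_lit 32, nat_lit 112] :=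
  cov_full (ctx h) n29

theorem cov28 {Γ X : Type*} [Group Γ] [MulAction Γ X] {T : Lst X J.n} {gen : ℕ → Γ} {A : Subgroup Γ} (h : J.Model T gen A) : Cov h.M (J.el gen) [L0, L1, L2, L3, L4, L5] R [nat_lit 0, nat_lit 8, nat_lit 24, nat_lit 32, nat_lit 16] :=
  cov_full (ctx h) n28

theorem cov27 {Γ X : Type*} [Group Γ] [MulAction Γ X] {T : Lst X J.n} {gen : ℕ → Γ} {A : Subgroup Γ} (h : J.Model T gen A) : Cov h.M (J.el gen) [L0, L1, L2, L3, L4, L5] R [nat_lit 0, nat_lit 8, nat_lit 24, nat_lit 32] :=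
  cov_red (ctx h) h.hAV n27 (forall_mem_cons' (cov28 h) (forall_mem_cons' (cov29 h) (forall_mem_cons' (cov30 h) (forall_mem_cons' (cov31 h) (forall_mem_cons' (cov32 h) (forall_mem_cons' (cov33 h) forall_mem_nil'))))))

theorem cov26 {Γ X : Type*} [Group Γ] [MulAction Γ X] {T : Lst X J.n} {gen : ℕ → Γ} {A : Subgroup Γ} (h : J.Model T gen A) : Cov h.M (J.el gen) [L0, L1, L2, L3, L4, L5] R [nat_lit 0, nat_lit 8, nat_lit 24, nat_lit 16, nat_lit 128] :=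
  cov_full (ctx h) n26

theorem cov25 {Γ X : Type*} [Group Γ] [MulAction Γ X] {T : Lst X J.n} {gen : ℕ → Γ} {A : Subgroup Γ} (h : J.Model T gen A) : Cov h.M (J.el gen) [L0, L1, L2, L3, L4, L5] R [nat_lit 0, nat_lit 8, nat_lit 24, nat_lit 16, nat_lit 152] :=
  cov_full (ctx h) n25

theorem cov24 {Γ X : Type*} [Group Γ] [MulAction Γ X] {T : Lst X J.n} {gen : ℕ → Γ} {A : Subgroup Γ} (h : J.Model T gen A) : Cov h.M (J.el gen) [L0, L1, L2, L3, L4, L5] R [nat_lit 0, nat_lit 8, nat_lit 24, nat_lit 16, nat_lit 72] :=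
  cov_full (ctx h) n24

theorem cov23 {Γ X : Type*} [Group Γ] [MulAction Γ X] {T : Lst X J.n} {gen : ℕ → Γ} {A : Subgroup Γ} (h : J.Model T gen A) : Cov h.M (J.el gen) [L0, L1, L2, L3, L4, L5] R [nat_lit 0, nat_lit 8, nat_lit 24, nat_lit 16, nat_lit 56] :=
  cov_full (ctx h) n23

theorem cov22 {Γ X : Type*} [Group Γ] [MulAction Γ X] {T : Lst X J.n} {gen : ℕ → Γ} {A : Subgroup Γ} (h : J.Model T gen A) : Cov h.M (J.el gen) [L0, L1, L2, L3, L4, L5] R [nat_lit 0, nat_lit 8, nat_lit 24, nat_lit 16, nat_lit 144] :=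
  cov_full (ctx h) n22

theorem cov21 {Γ X : Type*} [Group Γ] [MulAction Γ X] {T : Lst X J.n} {gen : ℕ → Γ} {A : Subgroup Γ} (h : J.Model T gen A) : Cov h.M (J.el gen) [L0, L1, L2, L3, L4, L5] R [nat_lit 0, nat_lit 8, nat_lit 24, nat_lit 16, nat_lit 32] :=
  cov_full (ctx h) n21

theorem cov20 {Γ X : Type*} [Group Γ] [MulAction Γ X] {T : Lst X J.n} {gen : ℕ → Γ} {A : Subgroup Γ} (h : J.Model T gen A) : Cov h.M (J.el gen) [L0, L1, L2, L3, L4, L5] R [nat_lit 0, nat_lit 8, nat_lit 24, nat_lit 16] :=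
  cov_red (ctx h) h.hAV n20 (forall_mem_cons' (cov21 h) (forall_mem_cons' (cov22 h) (forall_mem_cons' (cov23 h) (forall_mem_cons' (cov24 h) (forall_mem_cons' (cov25 h) (forall_mem_cons' (cov26 h) forall_mem_nil'))))))

theorem cov19 {Γ X : Type*} [Group Γ] [MulAction Γ X] {T : Lst X J.n} {gen : ℕ → Γ} {A : Subgroup Γ} (h : J.Model T gen A) : Cov h.M (J.el gen) [L0, L1, L2, L3, L4, L5] R [nat_lit 0, nat_lit 8, nat_lit 24] :=
  cov_red (ctx h) h.hAV n19 (forall_mem_cons' (cov20 h) (forall_mem_cons' (cov27 h) (forall_mem_cons' (cov34 h) forall_mem_nil')))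

theorem cov18 {Γ X : Type*} [Group Γ] [MulAction Γ X] {T : Lst X J.n} {gen : ℕ → Γ} {A : Subgroup Γ} (h : J.Model T gen A) : Cov h.M (J.el gen) [L0, L1, L2, L3, L4, L5] R [nat_lit 0, nat_lit 8, nat_lit 16, nat_lit 40] :=
  cov_full (ctx h) n18

theorem cov17 {Γ X : Type*} [Group Γ] [MulAction Γ X] {T : Lst X J.n} {gen : ℕ → Γ} {A : Subgroup Γ} (h : J.Model T gen A) : Cov h.M (J.el gen) [L0, L1, L2, L3, L4, L5] R [nat_lit 0, nat_lit 8, nat_lit 16, nat_lit 32, nat_lit 160] :=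
  cov_full (ctx h) n17

theorem cov16 {Γ X : Type*} [Group Γ] [MulAction Γ X] {T : Lst X J.n} {gen : ℕ → Γ} {A : Subgroup Γ} (h : J.Model T gen A) : Cov h.M (J.el gen) [L0, L1, L2, L3, L4, L5] R [nat_lit 0, nat_lit 8, nat_lit 16, nat_lit 32, nat_lit 168] :=
  cov_full (ctx h) n16

theorem cov15 {Γ X : Type*} [Group Γ] [MulAction Γ X] {T : Lst X J.n} {gen : ℕ → Γ} {A : Subgroup Γ} (h : J.Model T gen A) : Cov h.M (J.el gen) [L0, L1, L2, L3, L4, L5] R [nat_lit 0, nat_lit 8, nat_lit 16, nat_lit 32, nat_lit 56] :=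
  cov_full (ctx h) n15

theorem cov14 {Γ X : Type*} [Group Γ] [MulAction Γ X] {T : Lst X J.n} {gen : ℕ → Γ} {A : Subgroup Γ} (h : J.Model T gen A) : Cov h.M (J.el gen) [L0, L1, L2, L3, L4, L5] R [nat_lit 0, nat_lit 8, nat_lit 16, nat_lit 32, nat_lit 48] :=
  cov_full (ctx h) n14

theorem cov13 {Γ X : Type*} [Group Γ] [MulAction Γ X] {T : Lst X J.n} {gen : ℕ → Γ} {A : Subgroup Γ} (h : J.Model T gen A) : Cov h.M (J.el gen) [L0, L1, L2, L3, L4, L5] R [nat_lit 0, nat_lit 8, nat_lit 16, nat_lit 32, nat_lit 40] :=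
  cov_full (ctx h) n13

theorem cov12 {Γ X : Type*} [Group Γ] [MulAction Γ X] {T : Lst X J.n} {gen : ℕ → Γ} {A : Subgroup Γ} (h : J.Model T gen A) : Cov h.M (J.el gen) [L0, L1, L2, L3, L4, L5] R [nat_lit 0, nat_lit 8, nat_lit 16, nat_lit 32, nat_lit 24] :=
  cov_full (ctx h) n12

theorem cov11 {Γ X : Type*} [Group Γ] [MulAction Γ X] {T : Lst X J.n} {gen : ℕ → Γ} {A : Subgroup Γ} (h : J.Model T gen A) : Cov h.M (J.el gen) [L0, L1, L2, L3, L4, L5] R [nat_lit 0, nat_lit 8, nat_lit 16, nat_lit 32] :=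
  cov_red (ctx h) h.hAV n11 (forall_mem_cons' (cov12 h) (forall_mem_cons' (cov13 h) (forall_mem_cons' (cov14 h) (forall_mem_cons' (cov15 h) (forall_mem_cons' (cov16 h) (forall_mem_cons' (cov17 h) forall_mem_nil'))))))

theorem cov10 {Γ X : Type*} [Group Γ] [MulAction Γ X] {T : Lst X J.n} {gen : ℕ → Γ} {A : Subgroup Γ} (h : J.Model T gen A) : Cov h.M (J.el gen) [L0, L1, L2, L3, L4, L5] R [nat_lit 0, nat_lit 8, nat_lit 16, nat_lit 24, nat_lit 104] :=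
  cov_full (ctx h) n10

theorem cov9 {Γ X : Type*} [Group Γ] [MulAction Γ X] {T : Lst X J.n} {gen : ℕ → Γ} {A : Subgroup Γ} (h : J.Model T gen A) : Cov h.M (J.el gen) [L0, L1, L2, L3, L4, L5] R [nat_lit 0, nat_lit 8, nat_lit 16, nat_lit 24, nat_lit 88] :=
  cov_full (ctx h) n9

theorem cov8 {Γ X : Type*} [Group Γ] [MulAction Γ X] {T : Lst X J.n} {gen : ℕ → Γ} {A : Subgroup Γ} (h : J.Model T gen A) : Cov h.M (J.el gen) [L0, L1, L2, L3, L4, L5] R [nat_lit 0, nat_lit 8, nat_lit 16, nat_lit 24, nat_lit 72] :=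
  cov_full (ctx h) n8

theorem cov7 {Γ X : Type*} [Group Γ] [MulAction Γ X] {T : Lst X J.n} {gen : ℕ → Γ} {A : Subgroup Γ} (h : J.Model T gen A) : Cov h.M (J.el gen) [L0, L1, L2, L3, L4, L5] R [nat_lit 0, nat_lit 8, nat_lit 16, nat_lit 24, nat_lit 56] :=
  cov_full (ctx h) n7

theorem cov6 {Γ X : Type*} [Group Γ] [MulAction Γ X] {T : Lst X J.n} {gen : ℕ → Γ} {A : Subgroup Γ} (h : J.Model T gen A) : Cov h.M (J.el gen) [L0, L1, L2, L3, L4, L5] R [nat_lit 0, nat_lit 8, nat_lit 16, nat_lit 24, nat_lit 120] :=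
  cov_full (ctx h) n6

theorem cov5 {Γ X : Type*} [Group Γ] [MulAction Γ X] {T : Lst X J.n} {gen : ℕ → Γ} {A : Subgroup Γ} (h : J.Model T gen A) : Cov h.M (J.el gen) [L0, L1, L2, L3, L4, L5] R [nat_lit 0, nat_lit 8, nat_lit 16, nat_lit 24, nat_lit 32] :=
  cov_full (ctx h) n5

theorem cov4 {Γ X : Type*} [Group Γ] [MulAction Γ X] {T : Lst X J.n} {gen : ℕ → Γ} {A : Subgroup Γ} (h : J.Model T gen A) : Cov h.M (J.el gen) [L0, L1, L2, L3, L4, L5] R [nat_lit 0, nat_lit 8, nat_lit 16, nat_lit 24] :=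
  cov_red (ctx h) h.hAV n4 (forall_mem_cons' (cov5 h) (forall_mem_cons' (cov6 h) (forall_mem_cons' (cov7 h) (forall_mem_cons' (cov8 h) (forall_mem_cons' (cov9 h) (forall_mem_cons' (cov10 h) forall_mem_nil'))))))

theorem cov3 {Γ X : Type*} [Group Γ] [MulAction Γ X] {T : Lst X J.n} {gen : ℕ → Γ} {A : Subgroup Γ} (h : J.Model T gen A) : Cov h.M (J.el gen) [L0, L1, L2, L3, L4, L5] R [nat_lit 0, nat_lit 8, nat_lit 16] :=
  cov_red (ctx h) h.hAV n3 (forall_mem_cons' (cov4 h) (forall_mem_cons' (cov11 h) (forall_mem_cons' (cov18 h) forall_mem_nil')))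

theorem cov2 {Γ X : Type*} [Group Γ] [MulAction Γ X] {T : Lst X J.n} {gen : ℕ → Γ} {A : Subgroup Γ} (h : J.Model T gen A) : Cov h.M (J.el gen) [L0, L1, L2, L3, L4, L5] R [nat_lit 0, nat_lit 8] :=
  cov_red (ctx h) h.hAV n2 (forall_mem_cons' (cov3 h) (forall_mem_cons' (cov19 h) forall_mem_nil'))

theorem cov1 {Γ X : Type*} [Group Γ] [MulAction Γ X] {T : Lst X J.n} {gen : ℕ → Γ} {A : Subgroup Γ} (h : J.Model T gen A) : Cov h.M (J.el gen) [L0, L1, L2, L3, L4, L5] R [nat_lit 0] :=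
  cov_red (ctx h) h.hAV n1 (forall_mem_cons' (cov2 h) (forall_mem_cons' (cov35 h) forall_mem_nil'))

theorem cov0 {Γ X : Type*} [Group Γ] [MulAction Γ X] {T : Lst X J.n} {gen : ℕ → Γ} {A : Subgroup Γ} (h : J.Model T gen A) : Cov h.M (J.el gen) [L0, L1, L2, L3, L4, L5] R [] :=
  cov_red (ctx h) h.hAV n0 (forall_mem_cons' (cov1 h) (forall_mem_cons' (cov68 h) forall_mem_nil'))

theorem classes {Γ X : Type*} [Group Γ] [MulAction Γ X] {T : Lst X J.n} {gen : ℕ → Γ} {A : Subgroup Γ} (h : J.Model T gen A) : ∀ g ∈ J.G gen, ∃ j, j < 17 ∧ ∃ c ∈ J.G gen, c * g = R.x (J.el gen) j * c := by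
  rw [← GpL_eq]; exact (cov0 h).all

theorem ords {Γ X : Type*} [Group Γ] [MulAction Γ X] {T : Lst X J.n} {gen : ℕ → Γ} {A : Subgroup Γ} (h : J.Model T gen A) : ∀ j, j < 17 → orderOf (R.x (J.el gen) j) = nth os j :=
  specChk_ord (ctx h) sp

theorem spec {Γ X : Type*} [Group Γ] [MulAction Γ X] {T : Lst X J.n} {gen : ℕ → Γ} {A : Subgroup Γ} (h : J.Model T gen A) : Set.range (orderOf : J.G gen → ℕ) = {n | n ∈ [1, 2, 3, 4, 5, 6, 7, 8, 11, 14, 15, 23]} := by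
  rw [← GpL_eq]; exact spec_of_chk (ctx h) (cov0 h) sp

end Cfsg.Agent.Comp.M23y
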